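import Cfsg.Agent.M23Order.Base
import Cfsg.Agent.SmallSimple.PrimeDual
import Cfsg.Agent.SmallSimple.BurnsideNC
import Cfsg.Agent.SmallSimple.Simple168Max
set_option linter.all false

-- part: M23Order/Setup
section
/-!
# Degrees of a simple group of order 10200960 with self-centralizing Sylow 11- and 23-subgroups
-/

set_option autoImplicit false
set_option linter.unusedSectionVars false

open Cfsg Subgroup
open Cfsg.Agent.Characters.Core
open Cfsg.Agent.SmallSimple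
open Cfsg.Agent.M23Order.Base
open scoped ComplexConjugate

namespace Cfsg.Agent.M23Order.Setup

universe u

/-- The hypotheses of the character-theoretic step. -/
structure Hyp (G : Type u) [Group G] [Finite G] where
  hcard : Nat.card G = 10200960
  hcomm : commutator G = ⊤
  /-- a Sylow 23-subgroup -/
  P : Sylow 23 G
  hP : Nat.card P = 23
  hCP : centralizer (P : Set G) = (P : Subgroup G)
  heP : (centralizer (P : Set G)).relIndex (normalizer (P : Set G)) = 11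
  /-- a Sylow 11-subgroup -/
  Q : Sylow 11 G
  hQ : Nat.card Q = 11
  hCQ : centralizer (Q : Set G) = (Q : Subgroup G)
  heQ : (centralizer (Q : Set G)).relIndex (normalizer (Q : Set G)) = 5
  /-- Brauer's theorem for 23 -/
  D : SC 23 11 2 P
  /-- Brauer's theorem for 11 -/
  E : SC 11 5 2 Q

/-- the possible degrees -/
def A : List ℕ := [1, 11, 12, 22, 23, 45, 115, 126, 138, 160, 230, 231, 252, 253, 264, 276, 368,
  483, 495, 506, 528, 644, 736, 759, 770, 896, 990, 1012, 1035, 1265, 1288, 1380, 1518, 1540, 1656,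
  1760, 1771, 1920, 2024, 2277, 2415, 2530, 2760, 2772, 2898, 3036]

theorem arith_A : ∀ d < 3195, d ∣ 10200960 →
    (d % 23 = 0 ∨ d % 23 = 1 ∨ d % 23 = 22 ∨ d % 23 = 11 ∨ d % 23 = 12) →
    (d % 11 = 0 ∨ d % 11 = 1 ∨ d % 11 = 10 ∨ d % 11 = 5 ∨ d % 11 = 6) → d ∈ A := by
  have key : (List.range 3195).all (fun d => !(10200960 % d == 0) ||
      !(d % 23 == 0 || d % 23 == 1 || d % 23 == 22 || d % 23 == 11 || d % 23 == 12) ||
      !(d % 11 == 0 || d % 11 == 1 || d % 11 == 10 || d % 11 == 5 || d % 11 == 6) ||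
      A.contains d) = true := by decide +kernel
  intro d hd h1 h2 h3
  have h4 := List.all_eq_true.1 key d (List.mem_range.2 hd)
  simp only [Bool.or_eq_true, Bool.not_eq_true', beq_eq_false_iff_ne, Bool.or_eq_false_iff,
    List.contains_iff_mem] at h4
  have h5 : 10200960 % d = 0 := Nat.mod_eq_zero_of_dvd h1
  rcases h4 with ((h4 | h4) | h4) | h4
  · exact absurd h5 h4
  · omega
  · omega
  · exact h4

variable {G : Type u} [Group G] [Finite G] [IsSimpleGroup G] (H : Hyp G)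

include H

theorem mod_NE {p e t : ℕ} {P : Sylow p G} (D : SC p e t P) {χ : IrrCharacter G} (hχ : χ ∈ D.NE) :
    (D.ε χ = 1 ∧ (p : ℤ) ∣ dg χ - 1) ∨ (D.ε χ = -1 ∧ (p : ℤ) ∣ dg χ + 1) := by
  rcases D.ε_mem χ hχ with h | h
  · left; refine ⟨h, ?_⟩; have := D.mod_NE χ hχ; rwa [h] at this
  · right; refine ⟨h, ?_⟩; have := D.mod_NE χ hχ; rwa [h, sub_neg_eq_add] at this

/-- congruences modulo 23 -/
theorem mod23_NE {χ : IrrCharacter G} (hχ : χ ∈ H.D.NE) :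
    (H.D.ε χ = 1 ∧ dg χ % 23 = 1) ∨ (H.D.ε χ = -1 ∧ dg χ % 23 = 22) := by
  rcases mod_NE H H.D hχ with ⟨h1, h2⟩ | ⟨h1, h2⟩
  · left; exact ⟨h1, by omega⟩
  · right; exact ⟨h1, by omega⟩

theorem mod23_X {χ : IrrCharacter G} (hχ : χ ∈ H.D.X) :
    (H.D.d = 1 ∧ dg χ % 23 = 11) ∨ (H.D.d = -1 ∧ dg χ % 23 = 12) := by
  rw [H.D.deg_X χ hχ]
  have h := H.D.mod_X
  rcases H.D.d_mem with h1 | h1
  · left; rw [h1] at h; exact ⟨h1, by omega⟩
  · right; rw [h1] at h; exact ⟨h1, by omega⟩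

theorem mod23_out {χ : IrrCharacter G} (hχ : χ ∉ H.D.NE) (hχ' : χ ∉ H.D.X) : dg χ % 23 = 0 := by
  have := H.D.mod_out χ hχ hχ'
  omega

theorem mod11_NE {χ : IrrCharacter G} (hχ : χ ∈ H.E.NE) :
    (H.E.ε χ = 1 ∧ dg χ % 11 = 1) ∨ (H.E.ε χ = -1 ∧ dg χ % 11 = 10) := by
  rcases mod_NE H H.E hχ with ⟨h1, h2⟩ | ⟨h1, h2⟩
  · left; exact ⟨h1, by omega⟩
  · right; exact ⟨h1, by omega⟩

theorem mod11_X {χ : IrrCharacter G} (hχ : χ ∈ H.E.X) :
    (H.E.d = 1 ∧ dg χ % 11 = 5) ∨ (H.E.d = -1 ∧ dg χ % 11 = 6) := by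
  rw [H.E.deg_X χ hχ]
  have h := H.E.mod_X
  rcases H.E.d_mem with h1 | h1
  · left; rw [h1] at h; exact ⟨h1, by omega⟩
  · right; rw [h1] at h; exact ⟨h1, by omega⟩

theorem mod11_out {χ : IrrCharacter G} (hχ : χ ∉ H.E.NE) (hχ' : χ ∉ H.E.X) : dg χ % 11 = 0 := by
  have := H.E.mod_out χ hχ hχ'
  omega

theorem dg_lt (χ : IrrCharacter G) : dg χ < 3195 := by
  have h := sum_dg_sq_le ({χ} : Finset (IrrCharacter G))
  rw [Finset.sum_singleton, H.hcard] at h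
  by_contra h1
  push Not at h1
  have : 3195 ^ 2 ≤ dg χ ^ 2 := Nat.pow_le_pow_left h1 2
  omega

theorem dg_mem_A (χ : IrrCharacter G) : dg χ ∈ A := by
  refine arith_A _ (dg_lt H χ) (by rw [← H.hcard]; exact dg_dvd χ) ?_ ?_
  · by_cases h1 : χ ∈ H.D.NE
    · rcases mod23_NE H h1 with h | h <;> omega
    · by_cases h2 : χ ∈ H.D.X
      · rcases mod23_X H h2 with h | h <;> omega
      · left; exact mod23_out H h1 h2
  · by_cases h1 : χ ∈ H.E.NE
    · rcases mod11_NE H h1 with h | h <;> omega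
    · by_cases h2 : χ ∈ H.E.X
      · rcases mod11_X H h2 with h | h <;> omega
      · left; exact mod11_out H h1 h2

/-- characters whose degree is exceptional modulo 23 -/
theorem mem_X23 {χ : IrrCharacter G} (h : dg χ % 23 = 11 ∨ dg χ % 23 = 12) : χ ∈ H.D.X := by
  by_contra h2
  by_cases h1 : χ ∈ H.D.NE
  · rcases mod23_NE H h1 with h | h <;> omega
  · have := mod23_out H h1 h2; omega

theorem mem_X11 {χ : IrrCharacter G} (h : dg χ % 11 = 5 ∨ dg χ % 11 = 6) : χ ∈ H.E.X := by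
  by_contra h2
  by_cases h1 : χ ∈ H.E.NE
  · rcases mod11_NE H h1 with h | h <;> omega
  · have := mod11_out H h1 h2; omega

theorem mem_NE23 {χ : IrrCharacter G} (h : dg χ % 23 = 1 ∨ dg χ % 23 = 22) : χ ∈ H.D.NE := by
  by_contra h1
  by_cases h2 : χ ∈ H.D.X
  · rcases mod23_X H h2 with h | h <;> omega
  · have := mod23_out H h1 h2; omega

theorem mem_NE11 {χ : IrrCharacter G} (h : dg χ % 11 = 1 ∨ dg χ % 11 = 10) : χ ∈ H.E.NE := by
  by_contra h1
  by_cases h2 : χ ∈ H.E.X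
  · rcases mod11_X H h2 with h | h <;> omega
  · have := mod11_out H h1 h2; omega

/-- Two characters whose degrees are exceptional modulo 23 have the same degree. -/
theorem compat23 {χ ψ : IrrCharacter G} (h : dg χ % 23 = 11 ∨ dg χ % 23 = 12)
    (h' : dg ψ % 23 = 11 ∨ dg ψ % 23 = 12) : dg χ = dg ψ :=
  (H.D.deg_X χ (mem_X23 H h)).trans (H.D.deg_X ψ (mem_X23 H h')).symm

theorem compat11 {χ ψ : IrrCharacter G} (h : dg χ % 11 = 5 ∨ dg χ % 11 = 6)
    (h' : dg ψ % 11 = 5 ∨ dg ψ % 11 = 6) : dg χ = dg ψ :=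
  (H.E.deg_X χ (mem_X11 H h)).trans (H.E.deg_X ψ (mem_X11 H h')).symm

theorem eq_one_of_dg {χ : IrrCharacter G} (h : dg χ = 1) : χ = H.D.one := by
  apply Subtype.ext
  rw [H.D.coe_one]
  exact coe_eq_one_of_dg H.hcomm h

theorem one_eq_one : H.E.one = H.D.one := by
  apply Subtype.ext
  rw [H.D.coe_one, H.E.coe_one]

theorem dg_one : dg H.D.one = 1 := dg_of_eq (by rw [H.D.coe_one]; simp)

open Classical in
/-- `23 χ(1) - 21 ∑_{x ∈ P} χ(x)`. -/
noncomputable def kk (χ : IrrCharacter G) : ℤ :=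
  if χ ∈ H.D.NE then 2 * dg χ - 462 * H.D.ε χ
  else if χ ∈ H.D.X then 2 * dg χ + 231 * H.D.d else 2 * dg χ

theorem kk_eq [Fintype (H.P : Subgroup G)] (χ : IrrCharacter G) :
    (23 : ℂ) * (χ : G → ℂ) 1 - 21 * ∑ x : (H.P : Subgroup G), (χ : G → ℂ) x = kk H χ := by
  unfold kk
  rw [dg_eq]
  split_ifs with h1 h2
  · rw [H.D.sum_NE H.hP h1]; push_cast; ring
  · rw [H.D.sum_X h2]; push_cast; ring
  · rw [H.D.sum_out h1 h2]; push_cast; ring

theorem kk_one : kk H H.D.one = -460 := by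
  unfold kk
  rw [if_pos H.D.one_mem, dg_one H, H.D.ε_one]
  norm_num

theorem kk_NE_pos {χ : IrrCharacter G} (h : χ ∈ H.D.NE) (h1 : H.D.ε χ = 1) :
    kk H χ = 2 * dg χ - 462 := by
  unfold kk; rw [if_pos h, h1]; ring

theorem kk_NE_neg {χ : IrrCharacter G} (h : χ ∈ H.D.NE) (h1 : H.D.ε χ = -1) :
    kk H χ = 2 * dg χ + 462 := by
  unfold kk; rw [if_pos h, h1]; ring

theorem kk_X {χ : IrrCharacter G} (h : χ ∈ H.D.X) :
    kk H χ = 2 * dg χ + 231 * H.D.d := by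
  unfold kk
  rw [if_neg (fun h' => Finset.disjoint_left.1 H.D.disj h' h), if_pos h]

theorem kk_out {χ : IrrCharacter G} (h : χ ∉ H.D.NE) (h1 : χ ∉ H.D.X) :
    kk H χ = 2 * dg χ := by
  unfold kk; rw [if_neg h, if_neg h1]

theorem arith_pos : ∀ d ∈ A, d % 23 = 1 → d ≠ 1 → 231 ≤ d := by decide

theorem arith_X : ∀ d ∈ A, d % 23 = 12 → d ≠ 12 → 495 ≤ d := by decide

/-- `kk` is nonnegative on the nontrivial irreducible characters, unless the exceptional degree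
is 12. -/
theorem kk_nonneg (h12 : H.D.f ≠ 12) {χ : IrrCharacter G} (hχ : χ ≠ H.D.one) : 0 ≤ kk H χ := by
  by_cases h1 : χ ∈ H.D.NE
  · rcases mod23_NE H h1 with ⟨h, h'⟩ | ⟨h, h'⟩
    · rw [kk_NE_pos H h1 h]
      have := arith_pos H _ (dg_mem_A H χ) h' (fun h2 => hχ (eq_one_of_dg H h2))
      omega
    · rw [kk_NE_neg H h1 h]; omega
  · by_cases h2 : χ ∈ H.D.X
    · rw [kk_X H h2]
      rcases mod23_X H h2 with ⟨h, h'⟩ | ⟨h, h'⟩
      · rw [h]; omega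
      · have := arith_X H _ (dg_mem_A H χ) h' (by rw [H.D.deg_X χ h2]; exact h12)
        rw [h]; omega
    · rw [kk_out H h1 h2]; omega

omit H in
/-- A character as a combination of irreducible characters. -/
theorem exists_coeff [Fintype G] [Fintype (IrrCharacter G)] {φ : G → ℂ} (hφ : IsCharacter G φ) :
    ∃ c : IrrCharacter G → ℕ, (∀ g, φ g = ∑ χ : IrrCharacter G, (c χ : ℂ) * (χ : G → ℂ) g) ∧
      ∀ χ : IrrCharacter G, classInner φ (χ : G → ℂ) = c χ := by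
  obtain ⟨m, hm⟩ := exists_nat_comb hφ
  refine ⟨m, fun g => ?_, fun χ => ?_⟩
  · rw [hm, Finset.sum_apply]
    exact Finset.sum_congr rfl fun χ _ => by rw [Pi.smul_apply, nsmul_eq_mul]
  · rw [hm, classInner_sum_nsmul_irr]

/-- The functional on a character. -/
theorem sum_kk [Fintype (IrrCharacter G)] [Fintype (H.P : Subgroup G)] {φ : G → ℂ}
    {c : IrrCharacter G → ℕ} (hc : ∀ g, φ g = ∑ χ : IrrCharacter G, (c χ : ℂ) * (χ : G → ℂ) g)
    {z : ℤ} (hz : (23 : ℂ) * φ 1 - 21 * ∑ x : (H.P : Subgroup G), φ x = z) :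
    ∑ χ : IrrCharacter G, (c χ : ℤ) * kk H χ = z := by
  have h1 : ((∑ χ : IrrCharacter G, (c χ : ℤ) * kk H χ : ℤ) : ℂ) = z := by
    have h2 : ∑ x : (H.P : Subgroup G), φ x =
        ∑ x : (H.P : Subgroup G), ∑ χ : IrrCharacter G, (c χ : ℂ) * (χ : G → ℂ) x :=
      Finset.sum_congr rfl fun x _ => hc (x : G)
    rw [← hz, hc 1, h2, Finset.sum_comm, Finset.mul_sum, Finset.mul_sum,
      ← Finset.sum_sub_distrib]
    push_cast
    refine Finset.sum_congr rfl fun χ _ => ?_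
    rw [← kk_eq, ← Finset.mul_sum]
    ring
  exact_mod_cast h1

/-- There is no irreducible character of degree 11. -/
theorem dg_ne_eleven (χ : IrrCharacter G) : dg χ ≠ 11 := by
  classical
  intro hχ
  have := finite_irr (G := G)
  have := Fintype.ofFinite (IrrCharacter G)
  have := Fintype.ofFinite G
  have := Fintype.ofFinite (H.P : Subgroup G)
  have hX : χ ∈ H.D.X := mem_X23 H (Or.inl (by rw [hχ]))
  have hf : H.D.f = 11 := by rw [← H.D.deg_X χ hX, hχ]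
  have hd : H.D.d = 1 := by
    rcases mod23_X H hX with h | h
    · exact h.1
    · rw [hχ] at h; omega
  have hχ1 : χ ≠ H.D.one := by
    rintro rfl
    rw [dg_one H] at hχ; omega
  obtain ⟨c, hc, hc'⟩ := exists_coeff
    (isCharacter_mul (isIrr_isCharacter χ.2) (isCharacter_conj (isIrr_isCharacter χ.2)))
  -- the restriction to `P`
  have hval : ∀ x : (H.P : Subgroup G), (χ : G → ℂ) x = ∑ l ∈ H.D.S χ, ((l x : ℂˣ) : ℂ) := by
    intro x
    by_cases hx : x = 1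
    · subst hx
      rw [OneMemClass.coe_one, dg_eq, hχ]
      simp only [map_one, Units.val_one, Finset.sum_const, nsmul_eq_mul, mul_one]
      rw [H.D.card_S χ hX]
    · have := H.D.val_X χ hX x hx
      rw [this, hd, Int.cast_one, one_mul]
  have hsum : ∑ x : (H.P : Subgroup G), (χ : G → ℂ) x * conj ((χ : G → ℂ) x) = 253 := by
    calc ∑ x : (H.P : Subgroup G), (χ : G → ℂ) x * conj ((χ : G → ℂ) x)
        = ∑ x : (H.P : Subgroup G), ∑ l ∈ H.D.S χ, ∑ l' ∈ H.D.S χ,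
            ((l x : ℂˣ) : ℂ) * conj ((l' x : ℂˣ) : ℂ) := by
          refine Finset.sum_congr rfl fun x _ => ?_
          rw [hval x, map_sum, Finset.sum_mul_sum]
      _ = ∑ l ∈ H.D.S χ, ∑ l' ∈ H.D.S χ, ∑ x : (H.P : Subgroup G),
            ((l x : ℂˣ) : ℂ) * conj ((l' x : ℂˣ) : ℂ) := by
          rw [Finset.sum_comm]
          exact Finset.sum_congr rfl fun l _ => Finset.sum_comm
      _ = ∑ l ∈ H.D.S χ, (23 : ℂ) := by
          refine Finset.sum_congr rfl fun l hl => ?_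
          have : ∀ l' ∈ H.D.S χ, ∑ x : (H.P : Subgroup G),
              ((l x : ℂˣ) : ℂ) * conj ((l' x : ℂˣ) : ℂ) = if l = l' then 23 else 0 := by
            intro l' _
            rw [PrimeDual.sum_hom_mul_conj l l']
            have hP' : Nat.card (H.P : Subgroup G) = 23 := H.hP
            rw [hP']
            norm_num
          rw [Finset.sum_congr rfl this, Finset.sum_ite_eq, if_pos hl]
      _ = 253 := by
          rw [Finset.sum_const, H.D.card_S χ hX]; norm_num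
  have hz : (23 : ℂ) * ((χ : G → ℂ) * fun g => conj ((χ : G → ℂ) g)) 1 -
      21 * ∑ x : (H.P : Subgroup G), ((χ : G → ℂ) * fun g => conj ((χ : G → ℂ) g)) x =
        ((-2530 : ℤ) : ℂ) := by
    simp only [Pi.mul_apply]
    rw [hsum, dg_eq, hχ, Complex.conj_natCast]
    norm_num
  have hk := sum_kk H hc hz
  have h1 : c H.D.one = 1 := by
    have h2 := hc' H.D.one
    have h3 : classInner ((χ : G → ℂ) * fun g => conj ((χ : G → ℂ) g)) (H.D.one : G → ℂ) = 1 := by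
      rw [← classInner_irr_self χ.2, classInner_def, classInner_def]
      congr 1
      refine Finset.sum_congr rfl fun g _ => ?_
      rw [H.D.coe_one, Pi.mul_apply, Pi.one_apply, map_one, mul_one]
    rw [h3] at h2
    exact_mod_cast h2.symm
  rw [← Finset.add_sum_erase _ _ (Finset.mem_univ H.D.one), kk_one, h1, Nat.cast_one,
    one_mul] at hk
  have h4 : 0 ≤ ∑ ψ ∈ Finset.univ.erase H.D.one, (c ψ : ℤ) * kk H ψ := by
    refine Finset.sum_nonneg fun ψ hψ => mul_nonneg (Int.natCast_nonneg _) ?_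
    exact kk_nonneg H (by rw [hf]; norm_num) (Finset.ne_of_mem_erase hψ)
  linarith

end Cfsg.Agent.M23Order.Setup
end

-- part: M23Order/Eleven
section
/-!
# The principal 11-block
-/

set_option autoImplicit false
set_option linter.unusedSectionVars false

open Cfsg Subgroup
open Cfsg.Agent.Characters.Core
open Cfsg.Agent.SmallSimple
open Cfsg.Agent.M23Order.Base
open Cfsg.Agent.M23Order.Setup
open scoped ComplexConjugate

namespace Cfsg.Agent.M23Order.Eleven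

universe u

variable {G : Type u} [Group G] [Finite G]

/-- The nontrivial nonexceptional characters as a list sorted by signed degree. -/
theorem exists_list {p e t : ℕ} {P : Sylow p G} (D : SC p e t P) :
    ∃ l : List (IrrCharacter G), l.Nodup ∧ (∀ χ, χ ∈ l ↔ χ ∈ D.NE ∧ χ ≠ D.one) ∧
      l.length + 1 = e ∧ (l.map fun χ => D.ε χ * (dg χ : ℤ)).Pairwise (· ≤ ·) ∧
      (∀ F : IrrCharacter G → ℂ, ∑ χ ∈ D.NE, F χ = F D.one + (l.map F).sum) ∧
      (∀ F : IrrCharacter G → ℤ, ∑ χ ∈ D.NE, F χ = F D.one + (l.map F).sum) := by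
  classical
  obtain ⟨l, h1, h2, h3⟩ := DegreeData.exists_sorted (D.NE.erase D.one)
    (fun χ => D.ε χ * (dg χ : ℤ))
  refine ⟨l, h1, ?_, ?_, h3, ?_, ?_⟩
  · intro χ
    rw [← List.mem_toFinset, h2, Finset.mem_erase, and_comm]
  · rw [← D.card_NE, ← Finset.card_erase_add_one D.one_mem, ← h2, List.toFinset_card_of_nodup h1]
  · intro F
    rw [← Finset.add_sum_erase D.NE F D.one_mem, ← h2, List.sum_toFinset F h1]
  · intro F
    rw [← Finset.add_sum_erase D.NE F D.one_mem, ← h2, List.sum_toFinset F h1]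

variable [IsSimpleGroup G] (H : Hyp G)

include H

/-- Signed degrees of the nontrivial nonexceptional characters at 11. -/
def L11 : List ℤ := [-2760, -736, -483, -252, -230, 12, 23, 45, 276, 1035, 1288]

omit H [Group G] [Finite G] [IsSimpleGroup G] in
theorem arith_L11 : ∀ d ∈ A, d ≠ 1 → (d % 11 = 1 → (d : ℤ) ∈ L11) ∧
    (d % 11 = 10 → (-(d : ℤ)) ∈ L11) := by
  decide

theorem signed_mem_L11 {χ : IrrCharacter G} (hχ : χ ∈ H.E.NE) (h1 : χ ≠ H.E.one) :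
    H.E.ε χ * (dg χ : ℤ) ∈ L11 := by
  have hd : dg χ ≠ 1 := fun h => h1 (by rw [one_eq_one H]; exact eq_one_of_dg H h)
  have hA := arith_L11 _ (dg_mem_A H χ) hd
  rcases mod11_NE H hχ with ⟨h, h'⟩ | ⟨h, h'⟩
  · rw [h, one_mul]; exact hA.1 h'
  · rw [h, neg_one_mul]; exact hA.2 h'

theorem natAbs_signed {χ : IrrCharacter G} (hχ : χ ∈ H.E.NE) :
    (H.E.ε χ * (dg χ : ℤ)).natAbs = dg χ := by
  rcases H.E.ε_mem χ hχ with h | h <;> rw [h] <;> simp

theorem X11_nonempty : ∃ Θ, Θ ∈ H.E.X := by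
  have : H.E.X.Nonempty := by rw [← Finset.card_ne_zero, H.E.card_X]; norm_num
  exact this

theorem X23_nonempty : ∃ Θ, Θ ∈ H.D.X := by
  have : H.D.X.Nonempty := by rw [← Finset.card_ne_zero, H.D.card_X]; norm_num
  exact this

/-- The principal 11-block as a list. -/
theorem exists_four : ∃ a b c d : IrrCharacter G, [a, b, c, d].Nodup ∧
    (∀ χ, χ ∈ [a, b, c, d] ↔ χ ∈ H.E.NE ∧ χ ≠ H.E.one) ∧
    ∃ s₁ ∈ L11, ∃ s₂ ∈ L11, ∃ s₃ ∈ L11, ∃ s₄ ∈ L11, s₁ ≤ s₂ ∧ s₂ ≤ s₃ ∧ s₃ ≤ s₄ ∧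
      s₁ = H.E.ε a * (dg a : ℤ) ∧ s₂ = H.E.ε b * (dg b : ℤ) ∧ s₃ = H.E.ε c * (dg c : ℤ) ∧
      s₄ = H.E.ε d * (dg d : ℤ) ∧
      1 + s₁ + s₂ + s₃ + s₄ = H.E.d * H.E.f ∧
      (∀ Θ ∈ H.E.X, ∀ g : G, ¬ 11 ∣ orderOf g →
        1 + H.E.ε a * (a : G → ℂ) g + H.E.ε b * (b : G → ℂ) g + H.E.ε c * (c : G → ℂ) g +
          H.E.ε d * (d : G → ℂ) g = H.E.d * (Θ : G → ℂ) g) ∧
      (∀ F : IrrCharacter G → ℂ, ∑ χ ∈ H.E.NE, F χ = F H.E.one + F a + F b + F c + F d) := by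
  obtain ⟨l, h1, h2, h3, h4, h5, h6⟩ := exists_list H.E
  obtain ⟨a, b, c, d, rfl⟩ : ∃ a b c d, l = [a, b, c, d] := by
    have hl : l.length = 4 := by omega
    match l, hl with
    | [a, b, c, d], _ => exact ⟨a, b, c, d, rfl⟩
  have hm : ∀ χ ∈ [a, b, c, d], H.E.ε χ * (dg χ : ℤ) ∈ L11 := fun χ hχ =>
    signed_mem_L11 H ((h2 χ).1 hχ).1 ((h2 χ).1 hχ).2
  simp only [List.map_cons, List.map_nil, List.pairwise_cons, List.mem_cons, List.not_mem_nil,
    or_false, forall_eq_or_imp, forall_eq, IsEmpty.forall_iff, implies_true, List.Pairwise.nil,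
    and_true, false_imp_iff] at h4
  refine ⟨a, b, c, d, h1, h2, _, hm a (by simp), _, hm b (by simp), _, hm c (by simp), _,
    hm d (by simp), h4.1.1, h4.2.1.1, h4.2.2, rfl, rfl, rfl, rfl, ?_, ?_, ?_⟩
  · obtain ⟨Θ, hΘ⟩ := X11_nonempty H
    have h7 := H.E.rel_deg (by norm_num) hΘ
    rw [h6] at h7
    rw [← h7, H.E.ε_one, one_eq_one H, dg_one H]
    simp only [List.map_cons, List.map_nil, List.sum_cons, List.sum_nil]
    push_cast
    ring
  · intro Θ hΘ g hg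
    have h7 := H.E.rel Θ hΘ g hg
    rw [h5] at h7
    rw [← h7, H.E.ε_one, H.E.coe_one]
    simp only [List.map_cons, List.map_nil, List.sum_cons, List.sum_nil, Pi.one_apply]
    push_cast
    ring
  · intro F
    rw [h5]
    simp only [List.map_cons, List.map_nil, List.sum_cons, List.sum_nil]
    ring

omit H [Group G] [Finite G] [IsSimpleGroup G] in
theorem arith_126 : ∀ s₁ ∈ L11, s₁ ≠ 12 → ∀ s₂ ∈ L11, s₂ ≠ 12 → ∀ s₃ ∈ L11, s₃ ≠ 12 →
    ∀ s₄ ∈ L11, s₄ ≠ 12 → 1 + s₁ + s₂ + s₃ + s₄ ≠ 126 := by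
  decide +kernel

/-- There is no irreducible character of degree 126. -/
theorem dg_ne_126 (χ : IrrCharacter G) : dg χ ≠ 126 := by
  intro hχ
  obtain ⟨a, b, c, d, -, h2, s₁, hs₁, s₂, hs₂, s₃, hs₃, s₄, hs₄, -, -, -, e₁, e₂, e₃, e₄, h3, -⟩ :=
    exists_four H
  have hX : χ ∈ H.E.X := mem_X11 H (Or.inl (by rw [hχ]))
  have hf : H.E.f = 126 := by rw [← H.E.deg_X χ hX, hχ]
  have hd : H.E.d = 1 := by
    rcases mod11_X H hX with h | h
    · exact h.1
    · rw [hχ] at h; omega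
  have h12 : ∀ ψ : IrrCharacter G, dg ψ ≠ 12 := by
    intro ψ hψ
    have := compat23 H (χ := χ) (ψ := ψ) (by rw [hχ]; norm_num) (by rw [hψ]; norm_num)
    omega
  have hne : ∀ ψ ∈ [a, b, c, d], H.E.ε ψ * (dg ψ : ℤ) ≠ 12 := by
    intro ψ hψ h
    have h4 := natAbs_signed H ((h2 ψ).1 hψ).1
    rw [h] at h4
    exact h12 ψ h4.symm
  rw [hf, hd] at h3
  exact arith_126 s₁ hs₁ (by rw [e₁]; exact hne a (by simp)) s₂ hs₂
    (by rw [e₂]; exact hne b (by simp)) s₃ hs₃ (by rw [e₃]; exact hne c (by simp)) s₄ hs₄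
    (by rw [e₄]; exact hne d (by simp)) (by rw [h3]; norm_num)

omit H [Group G] [Finite G] [IsSimpleGroup G] in
theorem arith_896 : ∀ s₁ ∈ L11, ∀ s₂ ∈ L11, s₁ ≤ s₂ → ∀ s₃ ∈ L11, s₂ ≤ s₃ → ∀ s₄ ∈ L11, s₃ ≤ s₄ →
    1 + s₁ + s₂ + s₃ + s₄ = 896 → (s₁ = -483 ∧ s₂ = 45 ∧ s₃ = 45 ∧ s₄ = 1288) ∨
      (s₁ = -230 ∧ s₂ = 45 ∧ s₃ = 45 ∧ s₄ = 1035) := by
  decide +kernel

end Cfsg.Agent.M23Order.Eleven
end

-- part: M23Order/Five
section
/-!
# The principal 5-block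
-/

set_option autoImplicit false
set_option linter.unusedSectionVars false

open Cfsg Subgroup
open Cfsg.Agent.Characters.Core
open Cfsg.Agent.SmallSimple
open Cfsg.Agent.M23Order.Base
open Cfsg.Agent.M23Order.Setup
open Cfsg.Agent.M23Order.Eleven
open scoped ComplexConjugate

namespace Cfsg.Agent.M23Order.Five

universe u

/-- signed degrees `≡ 1` modulo 5 -/
def L5 : List ℤ := [-2024, -759, -644, -264, 231, 276, 506, 736, 896, 1656, 1771, 3036]

theorem arith_L5 : ∀ d ∈ A, d ≠ 1 → d ≠ 11 → d ≠ 126 → (d % 5 = 1 → (d : ℤ) ∈ L5) ∧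
    (d % 5 = 4 → (-(d : ℤ)) ∈ L5) := by
  decide

theorem arith_five : ∀ s₁ ∈ L5, ∀ s₂ ∈ L5, s₁ ≤ s₂ → ∀ s₃ ∈ L5, s₂ ≤ s₃ →
    -(1 + s₁ + s₂ + s₃) ∈ L5 →
    ((s₁.natAbs = 644 ∨ s₂.natAbs = 644 ∨ s₃.natAbs = 644 ∨ (1 + s₁ + s₂ + s₃).natAbs = 644) ∧
     (s₁.natAbs = 896 ∨ s₂.natAbs = 896 ∨ s₃.natAbs = 896 ∨ (1 + s₁ + s₂ + s₃).natAbs = 896)) ∨
    (s₁ = -2024 ∧ s₂ = 231 ∧ s₃ = 896) ∨ (s₁ = -2024 ∧ s₂ = 896 ∧ s₃ = 896) ∨
    (s₁ = 231 ∧ s₂ = 896 ∧ s₃ = 896) := by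
  decide +kernel

/-- signed degrees `≡ 1` modulo 5, `e = 2` -/
theorem arith_two : ∀ s ∈ L5, (1 + s).natAbs ∉ A := by decide

variable {G : Type u} [Group G] [Finite G] [IsSimpleGroup G] (H : Hyp G)

include H

theorem exists_five : ∃ a b c d : IrrCharacter G, dg a = 231 ∧ dg b = 896 ∧ dg c = 896 ∧
    dg d = 2024 ∧ b ≠ c ∧ ∀ g : G, ¬ 5 ∣ orderOf g →
      1 + (a : G → ℂ) g + (b : G → ℂ) g + (c : G → ℂ) g = (d : G → ℂ) g := by
  classical
  have h5 : Fact (Nat.Prime 5) := ⟨by norm_num⟩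
  obtain ⟨R⟩ : Nonempty (Sylow 5 G) := inferInstance
  have hR : Nat.card R = 5 := by
    refine Simple168Max.card_sylow_eq_prime R ?_ ?_ <;> rw [H.hcard] <;> norm_num
  obtain ⟨M, hM⟩ := Blocks.ExistsModular.exists_isPModular (p := 5) (by norm_num)
  obtain ⟨e, he⟩ : ∃ e, (centralizer (R : Set G)).relIndex (normalizer (R : Set G)) = e := ⟨_, rfl⟩
  have he4 : e ∣ 4 := by rw [← he]; exact BurnsideNC.relIndex_dvd_of_card_eq_prime R hR
  have he1 : e ≠ 1 := by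
    rw [← he]
    exact BurnsideNC.relIndex_ne_one (by rw [H.hcard]; norm_num) (by rw [H.hcard]; norm_num) R
  have he' : e = 2 ∨ e = 4 := by
    have : e ≤ 4 := Nat.le_of_dvd (by norm_num) he4
    interval_cases e <;> omega
  have hone : ∀ {t : ℕ} (B : DegreeData.BlockData 5 M R e t), B.one = H.D.one := by
    intro t B
    apply Subtype.ext
    rw [B.coe_one, H.D.coe_one]
  have hdeg : ∀ {t : ℕ} (B : DegreeData.BlockData 5 M R e t), ∀ χ ∈ B.l,
      B.ε χ * (dg χ : ℤ) ∈ L5 := by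
    intro t B χ hχ
    have hχ1 : χ ≠ H.D.one := by
      rw [← hone B]
      rintro rfl
      exact (List.nodup_cons.1 B.nodup).1 hχ
    have hA := arith_L5 _ (dg_mem_A H χ) (fun h => hχ1 (eq_one_of_dg H h)) (dg_ne_eleven H χ)
      (dg_ne_126 H χ)
    have h1 : B.ε χ * (dg χ : ℤ) ≡ 1 [ZMOD 5] := B.sd_modEq hR (List.mem_cons_of_mem _ hχ)
    rcases B.ε_mem χ (List.mem_cons_of_mem _ hχ) with h | h
    · rw [h, one_mul] at h1 ⊢
      exact hA.1 (by have := Int.emod_emod_of_dvd; have := h1.dvd; omega)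
    · rw [h, neg_one_mul] at h1 ⊢
      exact hA.2 (by have := h1.dvd; omega)
  rcases he' with rfl | rfl
  · exfalso
    obtain ⟨B⟩ := DegreeData.exists_blockData 5 (by norm_num) M hM R hR 2 2 he (by norm_num)
    obtain ⟨χ, hl⟩ : ∃ χ, B.l = [χ] := List.length_eq_one_iff.1 (by have := B.length; omega)
    have h1 := B.dexc_eq (by norm_num)
    have h2 := hdeg B χ (by rw [hl]; simp)
    obtain ⟨Θ, hΘ⟩ := B.exists_X (by norm_num)
    have h3 : B.degs.sum = B.ε χ * (dg χ : ℤ) := by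
      rw [DegreeData.BlockData.degs, hl]
      simp [DegreeData.BlockData.sd, dg]
    rw [h3] at h1
    apply arith_two _ h2
    rw [h1, B.natAbs_dexc, ← B.deg_X Θ hΘ]
    exact dg_mem_A H Θ
  · obtain ⟨B⟩ := DegreeData.exists_blockData 5 (by norm_num) M hM R hR 4 1 he (by norm_num)
    obtain ⟨x, y, z, hl⟩ : ∃ x y z, B.l = [x, y, z] :=
      List.length_eq_three.1 (by have := B.length; omega)
    obtain ⟨Θ, hΘ⟩ := B.exists_X (by norm_num)
    have hΘ1 : Θ ≠ H.D.one := by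
      rintro rfl
      rw [← hone B] at hΘ
      exact B.notMem_X _ List.mem_cons_self hΘ
    have hx := hdeg B x (by rw [hl]; simp)
    have hy := hdeg B y (by rw [hl]; simp)
    have hz := hdeg B z (by rw [hl]; simp)
    have h1 := B.dexc_eq (by norm_num)
    have h3 : B.degs.sum = B.ε x * (dg x : ℤ) + B.ε y * (dg y : ℤ) + B.ε z * (dg z : ℤ) := by
      rw [DegreeData.BlockData.degs, hl]
      simp [DegreeData.BlockData.sd, dg]
      ring
    have hsort := B.degs_sorted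
    rw [DegreeData.BlockData.degs, hl] at hsort
    simp only [List.map_cons, List.map_nil, List.pairwise_cons, List.mem_cons, List.not_mem_nil,
      or_false, forall_eq_or_imp, forall_eq, IsEmpty.forall_iff, implies_true, List.Pairwise.nil,
      and_true, false_imp_iff] at hsort
    have hT : -(B.dexc) ∈ L5 := by
      have hA := arith_L5 _ (dg_mem_A H Θ) (fun h => hΘ1 (eq_one_of_dg H h)) (dg_ne_eleven H Θ)
        (dg_ne_126 H Θ)
      have h4 : B.dexc ≡ 4 [ZMOD 5] := B.dexc_modEq hR (by norm_num)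
      rw [DegreeData.BlockData.dexc, ← B.deg_X Θ hΘ] at h4 ⊢
      change B.d * (dg Θ : ℤ) ≡ 4 [ZMOD 5] at h4
      change -(B.d * (dg Θ : ℤ)) ∈ L5
      rcases B.d_mem with h | h
      · rw [h, one_mul] at h4 ⊢
        exact hA.2 (by have := h4.dvd; omega)
      · rw [h, neg_one_mul] at h4 ⊢
        rw [neg_neg]
        exact hA.1 (by have := h4.dvd; omega)
    have hrel := B.rel Θ hΘ
    rw [hl] at hrel
    simp only [List.map_cons, List.map_nil, List.sum_cons, List.sum_nil] at hrel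
    have hnd := B.nodup
    rw [hl] at hnd
    simp only [List.nodup_cons, List.mem_cons, List.not_mem_nil, or_false, not_or] at hnd
    have hnX : ∀ χ ∈ [x, y, z], χ ≠ Θ := by
      intro χ hχ h
      refine B.notMem_X χ (List.mem_cons_of_mem _ ?_) (h ▸ hΘ)
      rw [hl]; exact hχ
    have hdx : (B.ε x * (dg x : ℤ)).natAbs = dg x := by
      rcases B.ε_mem x (by rw [hl]; simp) with h | h <;> rw [h] <;> simp
    have hdy : (B.ε y * (dg y : ℤ)).natAbs = dg y := by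
      rcases B.ε_mem y (by rw [hl]; simp) with h | h <;> rw [h] <;> simp
    have hdz : (B.ε z * (dg z : ℤ)).natAbs = dg z := by
      rcases B.ε_mem z (by rw [hl]; simp) with h | h <;> rw [h] <;> simp
    have hdT : (B.dexc).natAbs = dg Θ := by rw [B.natAbs_dexc, ← B.deg_X Θ hΘ]; rfl
    have hεx := B.ε_mem x (by rw [hl]; simp)
    have hεy := B.ε_mem y (by rw [hl]; simp)
    have hεz := B.ε_mem z (by rw [hl]; simp)
    have hdd := B.d_mem
    rw [h3] at h1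
    have h1' : 1 + B.ε x * (dg x : ℤ) + B.ε y * (dg y : ℤ) + B.ε z * (dg z : ℤ) = B.dexc := by
      rw [← h1]; ring
    have key := arith_five _ hx _ hy hsort.1.1 _ hz hsort.2 (by rw [h1']; exact hT)
    rw [h1', hdx, hdy, hdz, hdT] at key
    rcases key with ⟨k1, k2⟩ | ⟨k1, k2, k3⟩ | ⟨k1, k2, k3⟩ | ⟨k1, k2, k3⟩
    · exfalso
      have h644 : ∃ χ : IrrCharacter G, dg χ = 644 := by
        rcases k1 with h | h | h | h
        exacts [⟨_, h⟩, ⟨_, h⟩, ⟨_, h⟩, ⟨_, h⟩]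
      have h896 : ∃ χ : IrrCharacter G, dg χ = 896 := by
        rcases k2 with h | h | h | h
        exacts [⟨_, h⟩, ⟨_, h⟩, ⟨_, h⟩, ⟨_, h⟩]
      obtain ⟨χ, hχ⟩ := h644
      obtain ⟨ψ, hψ⟩ := h896
      have := compat11 H (χ := χ) (ψ := ψ) (by rw [hχ]; norm_num) (by rw [hψ]; norm_num)
      omega
    · rw [k1] at hdx; rw [k2] at hdy; rw [k3] at hdz
      have hT' : B.dexc = -896 := by rw [← h1', k1, k2, k3]; norm_num
      rw [hT'] at hdT
      have ex : B.ε x = -1 := by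
        rcases hεx with h | h
        · rw [h] at k1; omega
        · exact h
      have ey : B.ε y = 1 := by
        rcases hεy with h | h
        · exact h
        · rw [h] at k2; omega
      have ez : B.ε z = 1 := by
        rcases hεz with h | h
        · exact h
        · rw [h] at k3; omega
      have ed : B.d = -1 := by
        rcases hdd with h | h
        · rw [DegreeData.BlockData.dexc, h] at hT'; omega
        · exact h
      refine ⟨y, z, Θ, x, ?_, ?_, ?_, ?_, hnX z (by simp), fun g hg => ?_⟩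
      · omega
      · omega
      · omega
      · omega
      · have := hrel g hg
        rw [ex, ey, ez, ed] at this
        push_cast at this
        linear_combination this
    · rw [k1] at hdx; rw [k2] at hdy; rw [k3] at hdz
      have hT' : B.dexc = -231 := by rw [← h1', k1, k2, k3]; norm_num
      rw [hT'] at hdT
      have ex : B.ε x = -1 := by
        rcases hεx with h | h
        · rw [h] at k1; omega
        · exact h
      have ey : B.ε y = 1 := by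
        rcases hεy with h | h
        · exact h
        · rw [h] at k2; omega
      have ez : B.ε z = 1 := by
        rcases hεz with h | h
        · exact h
        · rw [h] at k3; omega
      have ed : B.d = -1 := by
        rcases hdd with h | h
        · rw [DegreeData.BlockData.dexc, h] at hT'; omega
        · exact h
      refine ⟨Θ, y, z, x, ?_, ?_, ?_, ?_, hnd.2.2.1, fun g hg => ?_⟩
      · omega
      · omega
      · omega
      · omega
      · have := hrel g hg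
        rw [ex, ey, ez, ed] at this
        push_cast at this
        linear_combination this
    · rw [k1] at hdx; rw [k2] at hdy; rw [k3] at hdz
      have hT' : B.dexc = 2024 := by rw [← h1', k1, k2, k3]; norm_num
      rw [hT'] at hdT
      have ex : B.ε x = 1 := by
        rcases hεx with h | h
        · exact h
        · rw [h] at k1; omega
      have ey : B.ε y = 1 := by
        rcases hεy with h | h
        · exact h
        · rw [h] at k2; omega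
      have ez : B.ε z = 1 := by
        rcases hεz with h | h
        · exact h
        · rw [h] at k3; omega
      have ed : B.d = 1 := by
        rcases hdd with h | h
        · exact h
        · rw [DegreeData.BlockData.dexc, h] at hT'; omega
      refine ⟨x, y, z, Θ, ?_, ?_, ?_, ?_, hnd.2.2.1, fun g hg => ?_⟩
      · omega
      · omega
      · omega
      · omega
      · have := hrel g hg
        rw [ex, ey, ez, ed] at this
        push_cast at this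
        linear_combination this

end Cfsg.Agent.M23Order.Five
end

-- part: M23Order/Invol
section
/-!
# A 2-central involution
-/

set_option autoImplicit false
set_option linter.unusedSectionVars false

open Cfsg Subgroup
open Cfsg.Agent.Characters.Core
open Cfsg.Agent.SmallSimple
open Cfsg.Agent.M23Order.Base
open Cfsg.Agent.M23Order.Setup
open Cfsg.Agent.M23Order.Eleven
open scoped ComplexConjugate

namespace Cfsg.Agent.M23Order.Invol

universe u

variable {G : Type u} [Group G] [Finite G]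

/-- The centralizer of an involution has order prime to `p` if a Sylow `p`-subgroup of order `p` is
self-centralizing. -/
theorem not_dvd_card_centralizer {p : ℕ} [hp : Fact p.Prime] (hp2 : p ≠ 2) (P : Sylow p G)
    (hP : Nat.card P = p) (hC : centralizer (P : Set G) = (P : Subgroup G)) {z : G}
    (hz : z ^ 2 = 1) (hz1 : z ≠ 1) : ¬ p ∣ Nat.card (centralizer ({z} : Set G)) := by
  intro h
  obtain ⟨x, hx⟩ := exists_prime_orderOf_dvd_card' p h
  have hx' : orderOf (x : G) = p := by rw [← hx]; exact Subgroup.orderOf_coe x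
  have hpg : IsPGroup p (zpowers (x : G)) :=
    IsPGroup.of_card (n := 1) (by rw [Nat.card_zpowers, hx', pow_one])
  obtain ⟨Q, hQ⟩ := hpg.exists_le_sylow
  obtain ⟨g, hg⟩ := MulAction.exists_smul_eq G Q P
  have hxQ : (x : G) ∈ (Q : Subgroup G) := hQ (mem_zpowers _)
  have hy : g * (x : G) * g⁻¹ ∈ (P : Subgroup G) := by
    rw [← hg]
    exact ⟨x, hxQ, rfl⟩
  have hy1 : g * (x : G) * g⁻¹ ≠ 1 := by
    intro h1
    rw [conj_eq_one_iff] at h1
    rw [h1, orderOf_one] at hx'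
    exact hp.out.one_lt.ne hx'
  have hcomm : g * z * g⁻¹ ∈ centralizer ({g * (x : G) * g⁻¹} : Set G) := by
    rw [mem_centralizer_singleton_iff]
    have h2 : (x : G) * z = z * x := (mem_centralizer_singleton_iff.1 x.2)
    calc g * z * g⁻¹ * (g * (x : G) * g⁻¹) = g * (z * x) * g⁻¹ := by group
      _ = g * (x * z) * g⁻¹ := by rw [h2]
      _ = g * (x : G) * g⁻¹ * (g * z * g⁻¹) := by group
  rw [Blocks.CyclicOrtho.centralizer_eq P hP hy hy1] at hcomm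
  have hC' : centralizer ((P : Subgroup G) : Set G) = (P : Subgroup G) := hC
  rw [hC'] at hcomm
  have h3 : orderOf (g * z * g⁻¹) ∣ p := by
    have := orderOf_dvd_natCard (⟨_, hcomm⟩ : (P : Subgroup G))
    have hP' : Nat.card (P : Subgroup G) = p := hP
    rw [hP'] at this
    rwa [← Subgroup.orderOf_coe] at this
  have h4 : orderOf (g * z * g⁻¹) ∣ 2 := orderOf_dvd_of_pow_eq_one (by
    rw [conj_pow, hz]; group)
  have h5 : orderOf (g * z * g⁻¹) ∣ 1 := by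
    have := Nat.dvd_gcd h3 h4
    rwa [(Nat.coprime_primes hp.out Nat.prime_two).2 hp2] at this
  have h6 := orderOf_eq_one_iff.1 (Nat.dvd_one.1 h5)
  rw [conj_eq_one_iff] at h6
  exact hz1 h6

/-- A 2-central involution. -/
theorem exists_central (T : Sylow 2 G) (hT : Nontrivial T) : ∃ z : G, z ^ 2 = 1 ∧ z ≠ 1 ∧
    (T : Subgroup G) ≤ centralizer ({z} : Set G) := by
  have hpg : IsPGroup 2 (T : Subgroup G) := T.isPGroup'
  have hc := hpg.center_nontrivial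
  have hc2 : IsPGroup 2 (center (T : Subgroup G)) := hpg.to_subgroup _
  obtain ⟨n, hn, hn'⟩ := hc2.nontrivial_iff_card.1 hc
  have h2 : 2 ∣ Nat.card (center (T : Subgroup G)) := by
    rw [hn']; exact dvd_pow_self 2 hn.ne'
  obtain ⟨z, hz⟩ := exists_prime_orderOf_dvd_card' 2 h2
  have hzG : orderOf ((z : (T : Subgroup G)) : G) = 2 := by
    rw [Subgroup.orderOf_coe, Subgroup.orderOf_coe, hz]
  refine ⟨((z : (T : Subgroup G)) : G), ?_, ?_, ?_⟩
  · have h3 := pow_orderOf_eq_one ((z : (T : Subgroup G)) : G)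
    rwa [hzG] at h3
  · intro h
    rw [h, orderOf_one] at hzG
    omega
  · intro t ht
    rw [mem_centralizer_singleton_iff]
    exact congrArg Subtype.val (mem_center_iff.1 z.2 ⟨t, ht⟩)

variable [IsSimpleGroup G] (H : Hyp G)

include H

theorem exists_invol : ∃ z : G, z ^ 2 = 1 ∧ z ≠ 1 ∧ ∃ s : ℕ,
    (centralizer ({z} : Set G)).index = 253 * s ∧ s ∣ 315 ∧
      Nat.card (centralizer ({z} : Set G)) * s = 40320 := by
  have : Fact (Nat.Prime 2) := ⟨Nat.prime_two⟩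
  have : Fact (Nat.Prime 23) := ⟨by norm_num⟩
  have : Fact (Nat.Prime 11) := ⟨by norm_num⟩
  obtain ⟨T⟩ : Nonempty (Sylow 2 G) := inferInstance
  have h128 : 128 ∣ Nat.card (T : Subgroup G) := by
    have : 2 ^ 7 ∣ Nat.card (T : Subgroup G) :=
      T.pow_dvd_card_of_pow_dvd_card (by rw [H.hcard]; norm_num)
    simpa using this
  have hT : Nontrivial T := by
    rw [← Finite.one_lt_card_iff_nontrivial]
    have h1 : 0 < Nat.card (T : Subgroup G) := Nat.card_pos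
    have h2 := Nat.le_of_dvd h1 h128
    change 1 < Nat.card (T : Subgroup G)
    omega
  obtain ⟨z, hz, hz1, hTz⟩ := exists_central T hT
  refine ⟨z, hz, hz1, ?_⟩
  have hmul := (centralizer ({z} : Set G)).card_mul_index
  rw [H.hcard] at hmul
  have h1 : 128 ∣ Nat.card (centralizer ({z} : Set G)) := h128.trans (card_dvd_of_le hTz)
  have h23 := not_dvd_card_centralizer (by norm_num) H.P H.hP H.hCP hz hz1
  have h11 := not_dvd_card_centralizer (by norm_num) H.Q H.hQ H.hCQ hz hz1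
  generalize Nat.card (centralizer ({z} : Set G)) = c at *
  generalize (centralizer ({z} : Set G)).index = i at *
  have hi23 : 23 ∣ i := by
    have h : 23 ∣ c * i := by rw [hmul]; norm_num
    exact ((Nat.Prime.dvd_mul (by norm_num)).1 h).resolve_left h23
  have hi11 : 11 ∣ i := by
    have h : 11 ∣ c * i := by rw [hmul]; norm_num
    exact ((Nat.Prime.dvd_mul (by norm_num)).1 h).resolve_left h11
  have hi : 253 ∣ i := by
    have := Nat.Coprime.mul_dvd_of_dvd_of_dvd (by norm_num : Nat.Coprime 11 23) hi11 hi23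
    simpa using this
  obtain ⟨s, rfl⟩ := hi
  obtain ⟨c', rfl⟩ := h1
  have h2 : c' * s = 315 := by
    have h3 : 32384 * (c' * s) = 32384 * 315 := by
      calc 32384 * (c' * s) = 128 * c' * (253 * s) := by ring
        _ = 32384 * 315 := by rw [hmul]
    exact Nat.eq_of_mul_eq_mul_left (by norm_num) h3
  exact ⟨s, rfl, ⟨c', by rw [← h2]; ring⟩, by norm_num [mul_assoc, h2]⟩

end Cfsg.Agent.M23Order.Invol
end

-- part: M23Order/Column
section
/-!
# The column of a 2-central involution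
-/

set_option autoImplicit false
set_option linter.unusedSectionVars false

open Cfsg Subgroup
open Cfsg.Agent.Characters.Core
open Cfsg.Agent.SmallSimple
open Cfsg.Agent.M23Order.Base
open Cfsg.Agent.M23Order.Setup
open Cfsg.Agent.M23Order.Eleven
open Cfsg.Agent.M23Order.Five
open Cfsg.Agent.M23Order.Invol
open scoped ComplexConjugate

namespace Cfsg.Agent.M23Order.Column

universe u

variable {G : Type u} [Group G] [Finite G] [IsSimpleGroup G]

/-- The values at an involution `z` with `|G : C(z)| = 253 s`. -/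
structure Col (H : Hyp G) (z : G) (s : ℕ) (v : IrrCharacter G → ℤ) : Prop where
  hz : z ^ 2 = 1
  hz1 : z ≠ 1
  s_dvd : s ∣ 315
  val : ∀ χ : IrrCharacter G, (χ : G → ℂ) z = v χ
  one : v H.D.one = 1
  lt : ∀ χ : IrrCharacter G, χ ≠ H.D.one → |v χ| < dg χ
  four : ∀ χ : IrrCharacter G, χ ≠ H.D.one → (4 : ℤ) ∣ dg χ - v χ
  dvd : ∀ χ : IrrCharacter G, (dg χ : ℤ) ∣ 253 * s * v χ
  norm : ∀ S : Finset (IrrCharacter G), (∑ χ ∈ S, v χ ^ 2) * s ≤ 40320

theorem exists_col (H : Hyp G) : ∃ z s v, Col H z s v := by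
  obtain ⟨z, hz, hz1, s, hs, hs', hs''⟩ := exists_invol H
  have h1 : ∀ χ : IrrCharacter G, ∃ n : ℤ, (χ : G → ℂ) z = n := by
    intro χ
    obtain ⟨_, n, -, h, -⟩ := InvolColumn.exists_int_of_char (isIrr_isCharacter χ.2) hz
    exact ⟨n, h⟩
  choose v hv using h1
  refine ⟨z, s, v, hz, hz1, hs', hv, ?_, ?_, ?_, ?_, ?_⟩
  · have := hv H.D.one
    rw [H.D.coe_one, Pi.one_apply] at this
    exact_mod_cast this.symm
  · intro χ hχ
    obtain ⟨n, hn, hn', -⟩ := InvolColumn.exists_int H.hcomm χ.2 (fun h => hχ (Subtype.ext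
      (by rw [H.D.coe_one]; exact h))) hz hz1
    have : v χ = n := by
      have h2 := hv χ
      rw [hn] at h2; exact_mod_cast h2.symm
    rw [this]; exact hn'
  · intro χ hχ
    obtain ⟨n, hn, -, hn'⟩ := InvolColumn.exists_int H.hcomm χ.2 (fun h => hχ (Subtype.ext
      (by rw [H.D.coe_one]; exact h))) hz hz1
    have : v χ = n := by
      have h2 := hv χ
      rw [hn] at h2; exact_mod_cast h2.symm
    rw [this]; exact hn'
  · intro χ
    have := InvolColumn.dvd_index_mul χ.2 (hv χ)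
    rw [hs] at this
    push_cast at this
    exact this
  · intro S
    have h2 := InvolColumn.sum_sq_le S z v (fun χ _ => hv χ)
    have h3 : (Nat.card (centralizer ({z} : Set G)) : ℤ) * s = 40320 := by exact_mod_cast hs''
    rw [← h3]
    exact mul_le_mul_of_nonneg_right h2 (by positivity)

variable {H : Hyp G} {z : G} {s : ℕ} {v : IrrCharacter G → ℤ}

/-- (R1) -/
theorem Col.rel_one (C : Col H z s v) {p e t : ℕ} (hp2 : p.Coprime 2) (hp1 : p ≠ 1)
    {P : Sylow p G} (D : SC p e t P)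
    {Θ : IrrCharacter G} (hΘ : Θ ∈ D.X) : ∑ χ ∈ D.NE, D.ε χ * v χ = D.d * v Θ := by
  have h1 := D.rel Θ hΘ z (fun h => hp1 (by
    have h2 : orderOf z ∣ 2 := orderOf_dvd_of_pow_eq_one C.hz
    exact Nat.dvd_one.1 (by rw [← hp2]; exact Nat.dvd_gcd dvd_rfl (h.trans h2))))
  rw [C.val Θ, Finset.sum_congr rfl fun χ _ => by rw [C.val χ]] at h1
  exact_mod_cast h1

theorem exists_mem_ne_one {p : ℕ} {P : Sylow p G} (hP : Nat.card P = p) (hp : p ≠ 1) :
    ∃ x ∈ (P : Subgroup G), x ≠ 1 := by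
  by_contra h
  push Not at h
  apply hp
  rw [← hP]
  have : (P : Subgroup G) = ⊥ := (Subgroup.eq_bot_iff_forall _).2 h
  change Nat.card (P : Subgroup G) = 1
  rw [this]; simp

/-- (R2) -/
theorem Col.rel_two (C : Col H z s v) {p e t : ℕ} (hp : p.Prime) (hp2 : p.Coprime 2)
    (he2 : Odd e) {P : Sylow p G} (hP : Nat.card P = p)
    (hC : centralizer (P : Set G) = (P : Subgroup G))
    (he : (centralizer (P : Set G)).relIndex (normalizer (P : Set G)) = e)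
    (D : SC p e t P) {Θ : IrrCharacter G} (hΘ : Θ ∈ D.X) :
    ∑ χ ∈ D.NE, (D.ε χ : ℂ) * ((v χ : ℂ) ^ 2 / dg χ) = D.d * ((v Θ : ℂ) ^ 2 / dg Θ) := by
  obtain ⟨x, hx, hx1⟩ := exists_mem_ne_one hP hp.one_lt.ne'
  have hR : InvolColumn.Rel x (fun g => ¬ p ∣ orderOf g) D.NE D.X D.ε D.d :=
    { disj := D.disj
      val := fun χ hχ => D.val χ hχ x hx hx1
      out := fun χ hχ hχ' => D.out χ hχ hχ' x hx hx1
      hd := D.d_mem
      rel := D.rel
      one := by rw [orderOf_one]; exact fun h => hp.one_lt.ne' (Nat.dvd_one.1 h)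
      ne_one := hx1 }
  have hz : ¬ p ∣ orderOf z := fun h => hp.one_lt.ne' (by
    have h2 : orderOf z ∣ 2 := orderOf_dvd_of_pow_eq_one C.hz
    exact Nat.dvd_one.1 (by rw [← hp2]; exact Nat.dvd_gcd dvd_rfl (h.trans h2)))
  have hPodd : Odd (Nat.card (P : Subgroup G)) := by
    have : Nat.card (P : Subgroup G) = p := hP
    rw [this]
    exact Nat.coprime_two_right.1 hp2
  have h1 := hR.relTwo hΘ hz hz (fun u w hu hw => by
    refine InvolColumn.ne_mul_of_odd (P := (P : Subgroup G)) he he2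
      (InvolColumn.zpowers_eq_of_card_prime hp hP) hPodd hx hx1 ?_ ?_
    · obtain ⟨g, rfl⟩ := isConj_iff.1 hu
      rw [conj_pow, C.hz]; group
    · obtain ⟨g, rfl⟩ := isConj_iff.1 hw
      rw [conj_pow, C.hz]; group)
  rw [C.val Θ, dg_eq, ← pow_two] at h1
  rw [← h1]
  refine Finset.sum_congr rfl fun χ _ => ?_
  rw [C.val χ, dg_eq, pow_two]

theorem Col.rel_one23 (C : Col H z s v) {Θ : IrrCharacter G} (hΘ : Θ ∈ H.D.X) :
    ∑ χ ∈ H.D.NE, H.D.ε χ * v χ = H.D.d * v Θ :=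
  C.rel_one (by norm_num) (by norm_num) H.D hΘ

theorem Col.rel_one11 (C : Col H z s v) {Θ : IrrCharacter G} (hΘ : Θ ∈ H.E.X) :
    ∑ χ ∈ H.E.NE, H.E.ε χ * v χ = H.E.d * v Θ :=
  C.rel_one (by norm_num) (by norm_num) H.E hΘ

theorem Col.rel_two23 (C : Col H z s v) {Θ : IrrCharacter G} (hΘ : Θ ∈ H.D.X) :
    ∑ χ ∈ H.D.NE, (H.D.ε χ : ℂ) * ((v χ : ℂ) ^ 2 / dg χ) = H.D.d * ((v Θ : ℂ) ^ 2 / dg Θ) :=
  C.rel_two (by norm_num) (by norm_num) (by decide) H.hP H.hCP H.heP H.D hΘ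

theorem Col.rel_two11 (C : Col H z s v) {Θ : IrrCharacter G} (hΘ : Θ ∈ H.E.X) :
    ∑ χ ∈ H.E.NE, (H.E.ε χ : ℂ) * ((v χ : ℂ) ^ 2 / dg χ) = H.E.d * ((v Θ : ℂ) ^ 2 / dg Θ) :=
  C.rel_two (by norm_num) (by norm_num) (by decide) H.hQ H.hCQ H.heQ H.E hΘ

end Cfsg.Agent.M23Order.Column
end

-- part: M23Order/ColumnEleven
section
/-!
# The values at the 2-central involution on the principal 11-block
-/

set_option autoImplicit false
set_option linter.unusedSectionVars false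

open Cfsg Subgroup
open Cfsg.Agent.Characters.Core
open Cfsg.Agent.SmallSimple
open Cfsg.Agent.M23Order.Base
open Cfsg.Agent.M23Order.Setup
open Cfsg.Agent.M23Order.Eleven
open Cfsg.Agent.M23Order.Five
open Cfsg.Agent.M23Order.Invol
open Cfsg.Agent.M23Order.Column
open scoped ComplexConjugate

namespace Cfsg.Agent.M23Order.ColumnEleven

universe u

section Arith

theorem s_mem {s : ℕ} (h : s ∣ 315) :
    s ∈ [1, 3, 5, 7, 9, 15, 21, 35, 45, 63, 105, 315] := by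
  have key : ∀ s ∈ List.range 316, s ∣ 315 → s ∈ [1, 3, 5, 7, 9, 15, 21, 35, 45, 63, 105, 315] := by
    decide +kernel
  exact key s (List.mem_range.2 (Nat.lt_succ_of_le (Nat.le_of_dvd (by norm_num) h))) h

/-- Type (483, 45, 45, 1288). -/
def chkA : Bool :=
  (List.range 100).all fun k => (List.range 43).all fun m =>
    let a : ℤ := 4 * k - 197
    let b : ℤ := a - (4 * m - 85)
    let N : ℤ := 120 * (a * a) - 45 * (b * b) - 57960
    !(N % 1288 == 0) || (List.range 22).all fun i =>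
      let x : ℤ := 4 * i - 43
      let y : ℤ := 4 * m - 85 - 1 - x
      !(1288 * (x * x + y * y) == N)

theorem chkA_eq : chkA = true := by decide +kernel

/-- Type (230, 45, 45, 1035). -/
def chkB : Bool :=
  (List.range 100).all fun k => (List.range 43).all fun m =>
    let a : ℤ := 4 * k - 198
    let b : ℤ := a - (4 * m - 85)
    let N : ℤ := 9 * (a * a) - 2 * (b * b) - 2070
    !(N % 46 == 0) || (List.range 22).all fun i =>
      let x : ℤ := 4 * i - 43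
      let y : ℤ := 4 * m - 85 - 1 - x
      !(46 * (x * x + y * y) == N) ||
      [1, 3, 5, 7, 9, 15, 21, 35, 45, 63, 105, 315].all fun s : ℤ =>
        !(253 * s * x % 45 == 0) || !(253 * s * y % 45 == 0) || !(253 * s * a % 230 == 0) ||
        !(253 * s * b % 1035 == 0) ||
        !(decide ((1 + x * x + y * y + a * a + b * b) * s ≤ 40320)) ||
        (s == 15 && x == -3 && y == -3 && a == 22) ||
        (s == 45 && a == 22 && b == 19 && x * x + y * y == 34)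

theorem chkB_eq : chkB = true := by decide +kernel

theorem exists_idx {x : ℤ} (hx : |x| < 45) (hx4 : (4 : ℤ) ∣ 45 - x) :
    ∃ i : ℕ, i < 22 ∧ x = 4 * (i : ℤ) - 43 := by
  rw [abs_lt] at hx
  refine ⟨((x + 43) / 4).toNat, ?_, ?_⟩ <;> omega

theorem abs_le_of_sq {a : ℤ} (ha : a ^ 2 ≤ 40320) : -200 ≤ a ∧ a ≤ 200 := by
  constructor <;> nlinarith

theorem arith_A {x y a b : ℤ} (hx : |x| < 45) (hx4 : (4 : ℤ) ∣ 45 - x) (hy : |y| < 45)
    (hy4 : (4 : ℤ) ∣ 45 - y) (ha : a ^ 2 ≤ 40320) (ha4 : (4 : ℤ) ∣ 483 - a)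
    (h1 : 1 - a + x + y + b = 0) (h2 : 57960 - 120 * a ^ 2 + 1288 * (x ^ 2 + y ^ 2) +
      45 * b ^ 2 = 0) : False := by
  obtain ⟨i, hi, rfl⟩ := exists_idx hx hx4
  obtain ⟨j, hj, rfl⟩ := exists_idx hy hy4
  have ha' := abs_le_of_sq ha
  obtain ⟨k, hk, rfl⟩ : ∃ k : ℕ, k < 100 ∧ a = 4 * (k : ℤ) - 197 :=
    ⟨((a + 197) / 4).toNat, by omega, by omega⟩
  have hb : b = 4 * (k : ℤ) - 197 - (4 * ((i + j : ℕ) : ℤ) - 85) := by push_cast; linarith
  subst hb
  have hm : i + j < 43 := by omega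
  have key := chkA_eq
  unfold chkA at key
  have h3 := List.all_eq_true.1 (List.all_eq_true.1 key k (List.mem_range.2 hk)) (i + j)
    (List.mem_range.2 hm)
  simp only [Bool.or_eq_true, Bool.not_eq_true', beq_eq_false_iff_ne, ne_eq] at h3
  rcases h3 with h3 | h3
  · apply h3
    rw [← Int.dvd_iff_emod_eq_zero]
    refine ⟨(4 * (i : ℤ) - 43) ^ 2 + (4 * (j : ℤ) - 43) ^ 2, ?_⟩
    linear_combination -h2
  · have h4 := List.all_eq_true.1 h3 i (List.mem_range.2 hi)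
    simp only [Bool.not_eq_true', beq_eq_false_iff_ne, ne_eq] at h4
    apply h4
    push_cast at h2 ⊢
    linear_combination h2

theorem arith_B {s : ℕ} {x y a b : ℤ} (hs : s ∣ 315) (hx : |x| < 45) (hx4 : (4 : ℤ) ∣ 45 - x)
    (hy : |y| < 45)
    (hy4 : (4 : ℤ) ∣ 45 - y) (ha : a ^ 2 ≤ 40320) (ha4 : (4 : ℤ) ∣ 230 - a)
    (h1 : 1 - a + x + y + b = 0) (h2 : 2070 - 9 * a ^ 2 + 46 * (x ^ 2 + y ^ 2) +
      2 * b ^ 2 = 0) (dx : (45 : ℤ) ∣ 253 * s * x) (dy : (45 : ℤ) ∣ 253 * s * y)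
    (da : (230 : ℤ) ∣ 253 * s * a) (db : (1035 : ℤ) ∣ 253 * s * b)
    (hn : (1 + x ^ 2 + y ^ 2 + a ^ 2 + b ^ 2) * s ≤ 40320) :
    (s = 15 ∧ x = -3 ∧ y = -3 ∧ a = 22 ∧ b = 27) ∨
      (s = 45 ∧ a = 22 ∧ b = 19 ∧ x ^ 2 + y ^ 2 = 34) := by
  have hs' : (s : ℤ) ∈ ([1, 3, 5, 7, 9, 15, 21, 35, 45, 63, 105, 315] : List ℤ) := by
    have := s_mem hs
    simp only [List.mem_cons, List.not_mem_nil, or_false] at this ⊢
    omega
  obtain ⟨i, hi, rfl⟩ := exists_idx hx hx4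
  obtain ⟨j, hj, rfl⟩ := exists_idx hy hy4
  have ha' := abs_le_of_sq ha
  obtain ⟨k, hk, rfl⟩ : ∃ k : ℕ, k < 100 ∧ a = 4 * (k : ℤ) - 198 :=
    ⟨((a + 198) / 4).toNat, by omega, by omega⟩
  have hb : b = 4 * (k : ℤ) - 198 - (4 * ((i + j : ℕ) : ℤ) - 85) := by push_cast; linarith
  subst hb
  have hm : i + j < 43 := by omega
  have key := chkB_eq
  unfold chkB at key
  have h3 := List.all_eq_true.1 (List.all_eq_true.1 key k (List.mem_range.2 hk)) (i + j)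
    (List.mem_range.2 hm)
  simp only [Bool.or_eq_true, Bool.not_eq_true', beq_eq_false_iff_ne, ne_eq] at h3
  have hyy : 4 * ((i + j : ℕ) : ℤ) - 85 - 1 - (4 * (i : ℤ) - 43) = 4 * (j : ℤ) - 43 := by
    push_cast; ring
  rcases h3 with h3 | h3
  · exfalso
    apply h3
    rw [← Int.dvd_iff_emod_eq_zero]
    refine ⟨(4 * (i : ℤ) - 43) ^ 2 + (4 * (j : ℤ) - 43) ^ 2, ?_⟩
    linear_combination -h2
  · have h4 := List.all_eq_true.1 h3 i (List.mem_range.2 hi)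
    rw [hyy] at h4
    simp only [Bool.or_eq_true, Bool.not_eq_true', beq_eq_false_iff_ne, ne_eq] at h4
    rcases h4 with h4 | h4
    · exfalso
      apply h4
      push_cast at h2 ⊢
      linear_combination h2
    · have h5 := List.all_eq_true.1 h4 _ hs'
      simp only [Bool.or_eq_true, Bool.not_eq_true', beq_eq_false_iff_ne, ne_eq,
        Bool.and_eq_true, beq_iff_eq, decide_eq_false_iff_not] at h5
      rcases h5 with ((((((h5 | h5) | h5) | h5) | h5) | h5) | h5)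
      · exact absurd (Int.emod_eq_zero_of_dvd dx) h5
      · exact absurd (Int.emod_eq_zero_of_dvd dy) h5
      · exact absurd (Int.emod_eq_zero_of_dvd da) h5
      · exact absurd (Int.emod_eq_zero_of_dvd db) h5
      · exact absurd (by rw [← pow_two, ← pow_two, ← pow_two, ← pow_two]; exact hn) h5
      · left
        obtain ⟨⟨⟨h6, h7⟩, h8⟩, h9⟩ := h5
        refine ⟨by exact_mod_cast h6, h7, h8, h9, ?_⟩
        linarith
      · right
        obtain ⟨⟨⟨h6, h7⟩, h8⟩, h9⟩ := h5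
        refine ⟨by exact_mod_cast h6, h7, h8, ?_⟩
        rw [pow_two, pow_two]; exact h9

end Arith

variable {G : Type u} [Group G] [Finite G] [IsSimpleGroup G] {H : Hyp G} {z : G} {s : ℕ}
  {v : IrrCharacter G → ℤ}

theorem ne_one_of_dg {χ : IrrCharacter G} (H : Hyp G) (h : dg χ ≠ 1) : χ ≠ H.D.one := by
  rintro rfl; exact h (dg_one H)

theorem s_pos (C : Col H z s v) : 1 ≤ s := by
  have := C.s_dvd
  rcases Nat.eq_zero_or_pos s with h | h
  · rw [h] at this; omega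
  · exact h

theorem sq_mul_le (C : Col H z s v) (χ : IrrCharacter G) : v χ ^ 2 * s ≤ 40320 := by
  have := C.norm {χ}
  simpa using this

theorem sq_le (C : Col H z s v) (χ : IrrCharacter G) : v χ ^ 2 ≤ 40320 := by
  have h1 := sq_mul_le C χ
  have h2 : (1 : ℤ) ≤ s := by exact_mod_cast s_pos C
  nlinarith [sq_nonneg (v χ)]

/-- Characters of degree 896 vanish at `z`. -/
theorem v896 (C : Col H z s v) {χ : IrrCharacter G} (hχ : dg χ = 896) : v χ = 0 := by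
  have h1 := C.dvd χ
  have h2 := C.lt χ (ne_one_of_dg H (by rw [hχ]; norm_num))
  have h3 := sq_mul_le C χ
  rw [hχ] at h1 h2
  have hm := s_mem C.s_dvd
  rw [abs_lt] at h2
  by_cases hs : s = 1
  · subst hs
    push_cast at h1 h2
    omega
  · have h4 : 3 ≤ s := by
      simp only [List.mem_cons, List.not_mem_nil, or_false] at hm
      omega
    have h5 : (3 : ℤ) ≤ s := by exact_mod_cast h4
    have h6 : v χ ^ 2 ≤ 13440 := by nlinarith [sq_nonneg (v χ)]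
    have h7 : -116 ≤ v χ ∧ v χ ≤ 116 := by constructor <;> nlinarith
    simp only [List.mem_cons, List.not_mem_nil, or_false] at hm
    rcases hm with rfl | rfl | rfl | rfl | rfl | rfl | rfl | rfl | rfl | rfl | rfl | rfl <;>
      push_cast at h1 <;> omega

/-- The principal 11-block with the column of `z`. -/
structure Elev (H : Hyp G) (z : G) (v : IrrCharacter G → ℤ) (a b c d g h b₁ c₁ : IrrCharacter G) :
    Prop where
  col : Col H z 15 v
  nodup : [a, b, c, d].Nodup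
  mem : ∀ χ, χ ∈ [a, b, c, d] ↔ χ ∈ H.E.NE ∧ χ ≠ H.D.one
  dga : dg a = 230
  dgb : dg b = 45
  dgc : dg c = 45
  dgd : dg d = 1035
  dgg : dg g = 231
  dgh : dg h = 2024
  dgb₁ : dg b₁ = 896
  dgc₁ : dg c₁ = 896
  b₁_ne : b₁ ≠ c₁
  X : ∀ χ, χ ∈ H.E.X ↔ χ = b₁ ∨ χ = c₁
  f : H.E.f = 896
  va : v a = 22
  vb : v b = -3
  vc : v c = -3
  vd : v d = 27
  vg : v g = 7
  vh : v h = 8

/-- The value at `z` of the characters of `B_0(5)`. -/
theorem arith_g {s : ℕ} {g h : ℤ} (hs : s = 15 ∨ s = 45) (hg : (231 : ℤ) ∣ 253 * s * g)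
    (hg4 : (4 : ℤ) ∣ 231 - g) (hh : (2024 : ℤ) ∣ 253 * s * h)
    (hgh : 1 + g = h) (hn : (880 + g ^ 2 + h ^ 2) * s ≤ 40320) : s = 15 ∧ g = 7 ∧ h = 8 := by
  have h1 : (7 : ℤ) ∣ g := by rcases hs with rfl | rfl <;> push_cast at hg <;> omega
  have h2 : (8 : ℤ) ∣ h := by rcases hs with rfl | rfl <;> push_cast at hh <;> omega
  have h3 : (15 : ℤ) ≤ s := by rcases hs with rfl | rfl <;> norm_num
  have h4 : g ^ 2 + h ^ 2 ≤ 1808 := by nlinarith [sq_nonneg g, sq_nonneg h]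
  have h5 : -42 ≤ g ∧ g ≤ 42 := by constructor <;> nlinarith [sq_nonneg h]
  have h6 : g = 7 := by omega
  have h7 : h = 8 := by omega
  refine ⟨?_, h6, h7⟩
  rcases hs with rfl | rfl
  · rfl
  · rw [h6, h7] at hn; norm_num at hn

theorem arith_C {s : ℕ} {x y a b g h : ℤ} (hs : s ∣ 315) (hx : |x| < 45)
    (hx4 : (4 : ℤ) ∣ 45 - x) (hy : |y| < 45)
    (hy4 : (4 : ℤ) ∣ 45 - y) (ha : a ^ 2 ≤ 40320) (ha4 : (4 : ℤ) ∣ 230 - a)
    (h1 : 1 - a + x + y + b = 0) (h2 : 2070 - 9 * a ^ 2 + 46 * (x ^ 2 + y ^ 2) +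
      2 * b ^ 2 = 0) (dx : (45 : ℤ) ∣ 253 * s * x) (dy : (45 : ℤ) ∣ 253 * s * y)
    (da : (230 : ℤ) ∣ 253 * s * a) (db : (1035 : ℤ) ∣ 253 * s * b)
    (hg : (231 : ℤ) ∣ 253 * s * g)
    (hg4 : (4 : ℤ) ∣ 231 - g) (hh : (2024 : ℤ) ∣ 253 * s * h)
    (hgh : 1 + g = h)
    (hn : (h ^ 2 + (g ^ 2 + (1 + a ^ 2 + x ^ 2 + y ^ 2 + b ^ 2))) * s ≤ 40320) :
    s = 15 ∧ a = 22 ∧ x = -3 ∧ y = -3 ∧ b = 27 ∧ g = 7 ∧ h = 8 := by
  have hs0 : (0 : ℤ) ≤ s := by positivity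
  have hn1 : (1 + x ^ 2 + y ^ 2 + a ^ 2 + b ^ 2) * s ≤ 40320 := by
    refine le_trans (mul_le_mul_of_nonneg_right ?_ hs0) hn
    linarith [sq_nonneg g, sq_nonneg h]
  have key := arith_B hs hx hx4 hy hy4 ha ha4 h1 h2 dx dy da db hn1
  have key2 : 879 ≤ x ^ 2 + y ^ 2 + a ^ 2 + b ^ 2 := by
    rcases key with ⟨-, k5, k6, k7, k8⟩ | ⟨-, k5, k6, k7⟩
    · rw [k5, k6, k7, k8]; norm_num
    · rw [k5, k6]; linarith
  have key3 := arith_g (s := s) (g := g) (h := h)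
    (by rcases key with h' | h' <;> [left; right] <;> exact h'.1) hg hg4 hh hgh (by
      refine le_trans (mul_le_mul_of_nonneg_right ?_ hs0) hn
      linarith)
  obtain ⟨k1, k9, k10⟩ := key3
  rcases key with ⟨-, k5, k6, k7, k8⟩ | ⟨k5, -⟩
  · exact ⟨k1, k7, k5, k6, k8, k9, k10⟩
  · omega

theorem exists_elev (H : Hyp G) : ∃ z v a b c d g h b₁ c₁, Elev H z v a b c d g h b₁ c₁ := by
  classical
  obtain ⟨z, s, v, C⟩ := exists_col H
  obtain ⟨g, b₁, c₁, h, dgg, dgb₁, dgc₁, dgh, hne, hfive⟩ := exists_five H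
  obtain ⟨a, b, c, d, hnd, hmem, s₁, hs₁, s₂, hs₂, s₃, hs₃, s₄, hs₄, h12, h23, h34, e₁, e₂, e₃, e₄,
    hrel, -, hsum⟩ := exists_four H
  have hb₁ : b₁ ∈ H.E.X := mem_X11 H (by rw [dgb₁]; norm_num)
  have hc₁ : c₁ ∈ H.E.X := mem_X11 H (by rw [dgc₁]; norm_num)
  have hX : ∀ χ, χ ∈ H.E.X ↔ χ = b₁ ∨ χ = c₁ := by
    have h0 : H.E.X = {b₁, c₁} := by
      symm
      refine Finset.eq_of_subset_of_card_le ?_ ?_
      · intro χ hχ
        rw [Finset.mem_insert, Finset.mem_singleton] at hχ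
        rcases hχ with rfl | rfl <;> assumption
      · rw [H.E.card_X, Finset.card_pair hne]
    intro χ
    rw [h0, Finset.mem_insert, Finset.mem_singleton]
  have hf : H.E.f = 896 := by rw [← H.E.deg_X b₁ hb₁, dgb₁]
  have hd1 : H.E.d = 1 := by
    rcases mod11_X H hb₁ with h' | h'
    · exact h'.1
    · rw [dgb₁] at h'; omega
  rw [hf, hd1] at hrel
  have hmem' : ∀ χ, χ ∈ [a, b, c, d] ↔ χ ∈ H.E.NE ∧ χ ≠ H.D.one := by
    intro χ; rw [hmem, one_eq_one H]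
  have ma := ((hmem a).1 (by simp)).1
  have mb := ((hmem b).1 (by simp)).1
  have mc := ((hmem c).1 (by simp)).1
  have md := ((hmem d).1 (by simp)).1
  have na := natAbs_signed H ma
  have nb := natAbs_signed H mb
  have nc := natAbs_signed H mc
  have nd := natAbs_signed H md
  rw [← e₁] at na
  rw [← e₂] at nb
  rw [← e₃] at nc
  rw [← e₄] at nd
  -- sums of integers
  have hsumZ : ∀ F : IrrCharacter G → ℤ, ∑ χ ∈ H.E.NE, F χ = F H.E.one + F a + F b + F c + F d := by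
    intro F
    have := hsum (fun χ => (F χ : ℂ))
    exact_mod_cast this
  have hR1 := C.rel_one11 hb₁
  have hR2 := C.rel_two11 hb₁
  rw [v896 C dgb₁, hsumZ, hd1, H.E.ε_one, one_eq_one H, C.one] at hR1
  rw [v896 C dgb₁, hsum, H.E.ε_one, one_eq_one H, C.one, dg_one H] at hR2
  have hg0 : g ∉ H.E.NE := by
    intro h'
    rcases mod11_NE H h' with h'' | h'' <;> rw [dgg] at h'' <;> omega
  have hh0 : h ∉ insert g H.E.NE := by
    intro h'
    rw [Finset.mem_insert] at h'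
    rcases h' with rfl | h'
    · omega
    · rcases mod11_NE H h' with h'' | h'' <;> rw [dgh] at h'' <;> omega
  have hnorm := C.norm (insert h (insert g H.E.NE))
  rw [Finset.sum_insert hh0, Finset.sum_insert hg0, hsumZ, one_eq_one H, C.one] at hnorm
  have hgh : 1 + v g = v h := by
    have h1 := hfive z (fun h' => by
      have h2 : orderOf z ∣ 2 := orderOf_dvd_of_pow_eq_one C.hz
      have h3 := h'.trans h2
      omega)
    rw [C.val, C.val, C.val, C.val, v896 C dgb₁, v896 C dgc₁] at h1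
    have : ((1 + v g : ℤ) : ℂ) = ((v h : ℤ) : ℂ) := by
      push_cast
      rw [← h1]
      push_cast
      ring
    exact_mod_cast this
  have hsgn : ∀ χ ∈ H.E.NE, dg χ ≠ 0 → ∀ n : ℤ, n = H.E.ε χ * (dg χ : ℤ) →
      (0 < n → H.E.ε χ = 1) ∧ (n < 0 → H.E.ε χ = -1) := by
    intro χ hχ _ n hn
    rcases H.E.ε_mem χ hχ with h' | h' <;> rw [h'] at hn ⊢ <;> constructor <;> intro <;> omega
  have sa := hsgn a ma (dg_ne_zero a) _ e₁
  have sb := hsgn b mb (dg_ne_zero b) _ e₂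
  have sc := hsgn c mc (dg_ne_zero c) _ e₃
  have sd := hsgn d md (dg_ne_zero d) _ e₄
  have hgdvd := C.dvd g
  have hhdvd := C.dvd h
  have hg4 := C.four g (ne_one_of_dg H (by rw [dgg]; norm_num))
  rw [dgg] at hgdvd hg4
  rw [dgh] at hhdvd
  rcases arith_896 s₁ hs₁ s₂ hs₂ h12 s₃ hs₃ h23 s₄ hs₄ h34 (by rw [hrel]; norm_num) with
    ⟨k1, k2, k3, k4⟩ | ⟨k1, k2, k3, k4⟩
  · exfalso
    rw [k1] at na; rw [k2] at nb; rw [k3] at nc; rw [k4] at nd
    rw [sa.2 (by omega), sb.1 (by omega), sc.1 (by omega), sd.1 (by omega)] at hR1 hR2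
    have da : dg a = 483 := by omega
    have db : dg b = 45 := by omega
    have dc : dg c = 45 := by omega
    have dd : dg d = 1288 := by omega
    rw [da, db, dc, dd] at hR2
    have h4a := C.four a (ne_one_of_dg H (by rw [da]; norm_num))
    have h4b := C.four b (ne_one_of_dg H (by rw [db]; norm_num))
    have h4c := C.four c (ne_one_of_dg H (by rw [dc]; norm_num))
    have hlb := C.lt b (ne_one_of_dg H (by rw [db]; norm_num))
    have hlc := C.lt c (ne_one_of_dg H (by rw [dc]; norm_num))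
    rw [da] at h4a
    rw [db] at h4b hlb
    rw [dc] at h4c hlc
    refine arith_A (x := v b) (y := v c) (a := v a) (b := v d) hlb h4b hlc h4c (sq_le C a) h4a
      (by linarith) ?_
    have : ((57960 - 120 * v a ^ 2 + 1288 * (v b ^ 2 + v c ^ 2) + 45 * v d ^ 2 : ℤ) : ℂ) = 0 := by
      push_cast at hR2 ⊢
      linear_combination 57960 * hR2
    exact_mod_cast this
  · rw [k1] at na; rw [k2] at nb; rw [k3] at nc; rw [k4] at nd
    rw [sa.2 (by omega), sb.1 (by omega), sc.1 (by omega), sd.1 (by omega)] at hR1 hR2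
    have da : dg a = 230 := by omega
    have db : dg b = 45 := by omega
    have dc : dg c = 45 := by omega
    have dd : dg d = 1035 := by omega
    rw [da, db, dc, dd] at hR2
    have h4a := C.four a (ne_one_of_dg H (by rw [da]; norm_num))
    have h4b := C.four b (ne_one_of_dg H (by rw [db]; norm_num))
    have h4c := C.four c (ne_one_of_dg H (by rw [dc]; norm_num))
    have hlb := C.lt b (ne_one_of_dg H (by rw [db]; norm_num))
    have hlc := C.lt c (ne_one_of_dg H (by rw [dc]; norm_num))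
    have hda := C.dvd a
    have hdb := C.dvd b
    have hdc := C.dvd c
    have hdd := C.dvd d
    rw [da] at h4a hda
    rw [db] at h4b hlb hdb
    rw [dc] at h4c hlc hdc
    rw [dd] at hdd
    obtain ⟨rfl, k⟩ := arith_C C.s_dvd hlb h4b hlc h4c
      (sq_le C a) h4a (by linarith) (by
        have : ((2070 - 9 * v a ^ 2 + 46 * (v b ^ 2 + v c ^ 2) + 2 * v d ^ 2 : ℤ) : ℂ) = 0 := by
          push_cast at hR2 ⊢
          linear_combination 2070 * hR2
        exact_mod_cast this) hdb hdc hda hdd hgdvd hg4 hhdvd hgh (by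
          rw [one_pow] at hnorm; exact hnorm)
    exact ⟨z, v, a, b, c, d, g, h, b₁, c₁, C, hnd, hmem', da, db, dc, dd, dgg, dgh, dgb₁, dgc₁, hne,
      hX, hf, k.1, k.2.1, k.2.2.1, k.2.2.2.1, k.2.2.2.2.1, k.2.2.2.2.2⟩

end Cfsg.Agent.M23Order.ColumnEleven
end

-- part: M23Order/TwentyThree
section
/-!
# The principal 23-block
-/

set_option autoImplicit false
set_option linter.unusedSectionVars false

open Cfsg Subgroup
open Cfsg.Agent.Characters.Core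
open Cfsg.Agent.SmallSimple
open Cfsg.Agent.M23Order.Base
open Cfsg.Agent.M23Order.Setup
open Cfsg.Agent.M23Order.Eleven
open Cfsg.Agent.M23Order.Five
open Cfsg.Agent.M23Order.Invol
open Cfsg.Agent.M23Order.Column
open Cfsg.Agent.M23Order.ColumnEleven
open scoped ComplexConjugate

namespace Cfsg.Agent.M23Order.TwentyThree

universe u

section Arith

/-- signed degrees of the remaining five characters of the principal 23-block -/
def T : List ℤ := [-1540, -528, -22, 231, 990]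

/-- signed degrees of the exceptional characters -/
def F : List ℤ := [264, 770, -495, -1760, -2772]

theorem arith_T : ∀ d ∈ A, d ≠ 1 → d % 11 = 0 → (d % 23 = 1 → (d : ℤ) ∈ T) ∧
    (d % 23 = 22 → (-(d : ℤ)) ∈ T) := by
  decide

theorem arith_F : ∀ d ∈ A, d ≠ 11 → d % 11 = 0 → (d % 23 = 11 → (d : ℤ) ∈ F) ∧
    (d % 23 = 12 → (-(d : ℤ)) ∈ F) := by
  decide

/-- the eight degree patterns -/
def cases : List (List ℤ) :=
  [[-528, 231, 231, 990, 990, 264], [231, 231, 231, 231, 990, 264], [-22, -22, -22, 990, 990, 264],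
   [-22, 231, 231, 990, 990, 770], [-528, -528, 231, 990, 990, -495],
   [-528, 231, 231, 231, 990, -495], [231, 231, 231, 231, 231, -495],
   [-22, -22, -22, 231, 990, -495]]

theorem arith_cases : ∀ s₁ ∈ T, ∀ s₂ ∈ T, s₁ ≤ s₂ → ∀ s₃ ∈ T, s₂ ≤ s₃ → ∀ s₄ ∈ T, s₃ ≤ s₄ →
    ∀ s₅ ∈ T, s₄ ≤ s₅ → ∀ f ∈ F, -1650 + (s₁ + s₂ + s₃ + s₄ + s₅) = f →
    s₁ * s₁ + s₂ * s₂ + s₃ * s₃ + s₄ * s₄ + s₅ * s₅ + 2 * (f * f) ≤ 3317215 →
    [s₁, s₂, s₃, s₄, s₅, f] ∈ cases := by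
  decide +kernel

/-- values of a character of degree 528 -/
def V528 : List ℤ := [-32, -16, 0, 16, 32]

/-- values of a character of degree 231 -/
def V231 : List ℤ := [-21, 7, 35]

/-- values of a character of degree 990 -/
def V990 : List ℤ := [-30, -18, -6, 6, 18, 30]

theorem mem_V528 {x : ℤ} (h : x ^ 2 ≤ 1343) (h1 : (528 : ℤ) ∣ 253 * 15 * x) : x ∈ V528 := by
  have h2 : -36 ≤ x ∧ x ≤ 36 := by constructor <;> nlinarith
  simp only [V528, List.mem_cons, List.not_mem_nil, or_false]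
  omega

theorem mem_V231 {x : ℤ} (h : x ^ 2 ≤ 1343) (h1 : (231 : ℤ) ∣ 253 * 15 * x)
    (h3 : (4 : ℤ) ∣ 231 - x) : x ∈ V231 := by
  have h2 : -36 ≤ x ∧ x ≤ 36 := by constructor <;> nlinarith
  simp only [V231, List.mem_cons, List.not_mem_nil, or_false]
  omega

theorem mem_V990 {x : ℤ} (h : x ^ 2 ≤ 1343) (h1 : (990 : ℤ) ∣ 253 * 15 * x)
    (h3 : (4 : ℤ) ∣ 990 - x) : x ∈ V990 := by
  have h2 : -36 ≤ x ∧ x ≤ 36 := by constructor <;> nlinarith
  simp only [V990, List.mem_cons, List.not_mem_nil, or_false]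
  omega

theorem case1 : ∀ u ∈ V528, ∀ t₁ ∈ V231, ∀ t₂ ∈ V231, ∀ k₁ ∈ V990, ∀ k₂ ∈ V990,
    45024 - 105 * (u * u) + 240 * (t₁ * t₁ + t₂ * t₂) + 56 * (k₁ * k₁ + k₂ * k₂) =
      210 * ((14 - u + t₁ + t₂ + k₁ + k₂) * (14 - u + t₁ + t₂ + k₁ + k₂)) →
    ¬ (u * u + t₁ * t₁ + t₂ * t₂ + k₁ * k₁ + k₂ * k₂ +
      2 * ((14 - u + t₁ + t₂ + k₁ + k₂) * (14 - u + t₁ + t₂ + k₁ + k₂)) ≤ 1343) := by
  decide +kernel

theorem case2 : ∀ t₁ ∈ V231, ∀ t₂ ∈ V231, ∀ t₃ ∈ V231, ∀ t₄ ∈ V231, ∀ k₁ ∈ V990,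
    45024 + 240 * (t₁ * t₁ + t₂ * t₂ + t₃ * t₃ + t₄ * t₄) + 56 * (k₁ * k₁) =
      210 * ((14 + t₁ + t₂ + t₃ + t₄ + k₁) * (14 + t₁ + t₂ + t₃ + t₄ + k₁)) →
    ¬ (t₁ * t₁ + t₂ * t₂ + t₃ * t₃ + t₄ * t₄ + k₁ * k₁ +
      2 * ((14 + t₁ + t₂ + t₃ + t₄ + k₁) * (14 + t₁ + t₂ + t₃ + t₄ + k₁)) ≤ 1343) := by
  decide +kernel

theorem sq990 : ∀ k ∈ V990, k ^ 2 % 9 = 0 := by decide

theorem case3 {a k₁ k₂ w : ℤ} (h₁ : k₁ ∈ V990) (h₂ : k₂ ∈ V990)
    (h : 45024 - 2520 * a + 56 * (k₁ ^ 2 + k₂ ^ 2) = 210 * w ^ 2) : False := by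
  have h3 := sq990 k₁ h₁
  have h4 := sq990 k₂ h₂
  have h5 : w ^ 2 % 3 = 0 ∨ w ^ 2 % 3 = 1 := by
    have : w % 3 = 0 ∨ w % 3 = 1 ∨ w % 3 = 2 := by omega
    rcases this with h' | h' | h' <;> simp [pow_two, Int.mul_emod, h']
  omega

theorem case5 : ∀ u₁ ∈ V528, ∀ u₂ ∈ V528, ∀ t₁ ∈ V231, ∀ k₁ ∈ V990, ∀ k₂ ∈ V990,
    45024 - 105 * (u₁ * u₁ + u₂ * u₂) + 240 * (t₁ * t₁) + 56 * (k₁ * k₁ + k₂ * k₂) =
      -(112 * ((14 - u₁ - u₂ + t₁ + k₁ + k₂) * (14 - u₁ - u₂ + t₁ + k₁ + k₂))) →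
    ¬ (u₁ * u₁ + u₂ * u₂ + t₁ * t₁ + k₁ * k₁ + k₂ * k₂ +
      2 * ((14 - u₁ - u₂ + t₁ + k₁ + k₂) * (14 - u₁ - u₂ + t₁ + k₁ + k₂)) ≤ 1343) := by
  decide +kernel

theorem case6 : ∀ u ∈ V528, ∀ t₁ ∈ V231, ∀ t₂ ∈ V231, ∀ t₃ ∈ V231, ∀ k₁ ∈ V990,
    45024 - 105 * (u * u) + 240 * (t₁ * t₁ + t₂ * t₂ + t₃ * t₃) + 56 * (k₁ * k₁) =
      -(112 * ((14 - u + t₁ + t₂ + t₃ + k₁) * (14 - u + t₁ + t₂ + t₃ + k₁))) →
    ¬ (u * u + t₁ * t₁ + t₂ * t₂ + t₃ * t₃ + k₁ * k₁ +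
      2 * ((14 - u + t₁ + t₂ + t₃ + k₁) * (14 - u + t₁ + t₂ + t₃ + k₁)) ≤ 1343) := by
  decide +kernel

theorem case8 {a t k w : ℤ} (h₁ : t ∈ V231) (h₂ : k ∈ V990) (hw : (495 : ℤ) ∣ 253 * 15 * w)
    (h : 45024 - 2520 * a + 240 * t ^ 2 + 56 * k ^ 2 = -(112 * w ^ 2)) : False := by
  have h3 := sq990 k h₂
  have h4 : t ^ 2 % 3 = 0 ∨ t ^ 2 % 3 = 1 := by
    have : t % 3 = 0 ∨ t % 3 = 1 ∨ t % 3 = 2 := by omega
    rcases this with h' | h' | h' <;> simp [pow_two, Int.mul_emod, h']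
  obtain ⟨j, rfl⟩ : (3 : ℤ) ∣ w := by omega
  have h5 : (3 * j) ^ 2 = 9 * j ^ 2 := by ring
  rw [h5] at h
  omega

end Arith

variable {G : Type u} [Group G] [Finite G]

omit [Finite G] in
theorem exists_list5 {S : Finset (IrrCharacter G)} (f : IrrCharacter G → ℤ) (hS : S.card = 5) :
    ∃ c₁ c₂ c₃ c₄ c₅ : IrrCharacter G, (∀ χ, χ ∈ S ↔ χ ∈ [c₁, c₂, c₃, c₄, c₅]) ∧
      f c₁ ≤ f c₂ ∧ f c₂ ≤ f c₃ ∧ f c₃ ≤ f c₄ ∧ f c₄ ≤ f c₅ ∧
      [c₁, c₂, c₃, c₄, c₅].Nodup ∧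
      (∀ F : IrrCharacter G → ℂ, ∑ χ ∈ S, F χ = F c₁ + F c₂ + F c₃ + F c₄ + F c₅) := by
  classical
  obtain ⟨l, h1, h2, h3⟩ := DegreeData.exists_sorted S f
  have hl : l.length = 5 := by rw [← hS, ← h2, List.toFinset_card_of_nodup h1]
  obtain ⟨c₁, c₂, c₃, c₄, c₅, rfl⟩ : ∃ c₁ c₂ c₃ c₄ c₅, l = [c₁, c₂, c₃, c₄, c₅] := by
    match l, hl with
    | [c₁, c₂, c₃, c₄, c₅], _ => exact ⟨c₁, c₂, c₃, c₄, c₅, rfl⟩
  simp only [List.map_cons, List.map_nil, List.pairwise_cons, List.mem_cons, List.not_mem_nil,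
    or_false, forall_eq_or_imp, forall_eq, IsEmpty.forall_iff, implies_true, List.Pairwise.nil,
    and_true, false_imp_iff] at h3
  refine ⟨c₁, c₂, c₃, c₄, c₅, fun χ => by rw [← h2, List.mem_toFinset], h3.1.1, h3.2.1.1,
    h3.2.2.1.1, h3.2.2.2, h1, fun F => ?_⟩
  rw [← h2, List.sum_toFinset F h1]
  simp only [List.map_cons, List.map_nil, List.sum_cons, List.sum_nil]
  ring

variable [IsSimpleGroup G] {H : Hyp G} {z : G} {v : IrrCharacter G → ℤ}
  {a b c d g h b₁ c₁ : IrrCharacter G}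

theorem dg_mod (K : Elev H z v a b c d g h b₁ c₁) {χ : IrrCharacter G} (h0 : χ ≠ H.D.one)
    (ha : χ ≠ a) (hb : χ ≠ b) (hc : χ ≠ c) (hd : χ ≠ d) (hb₁ : χ ≠ b₁) (hc₁ : χ ≠ c₁) :
    dg χ % 11 = 0 := by
  refine mod11_out H (fun h' => ?_) (fun h' => ?_)
  · have := (K.mem χ).2 ⟨h', h0⟩
    simp only [List.mem_cons, List.not_mem_nil, or_false] at this
    tauto
  · have := (K.X χ).1 h'
    tauto

/-- The principal 23-block: five characters. -/
theorem exists_rest (K : Elev H z v a b c d g h b₁ c₁) :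
    ∃ x₁ x₂ x₃ x₄ x₅ : IrrCharacter G,
      (∀ χ, χ ∈ H.D.NE ↔ χ ∈ [H.D.one, b, c, b₁, c₁, g, x₁, x₂, x₃, x₄, x₅]) ∧
      (∀ χ ∈ [x₁, x₂, x₃, x₄, x₅], H.D.ε χ * (dg χ : ℤ) ∈ T) ∧
      H.D.ε x₁ * (dg x₁ : ℤ) ≤ H.D.ε x₂ * (dg x₂ : ℤ) ∧
      H.D.ε x₂ * (dg x₂ : ℤ) ≤ H.D.ε x₃ * (dg x₃ : ℤ) ∧
      H.D.ε x₃ * (dg x₃ : ℤ) ≤ H.D.ε x₄ * (dg x₄ : ℤ) ∧
      H.D.ε x₄ * (dg x₄ : ℤ) ≤ H.D.ε x₅ * (dg x₅ : ℤ) ∧
      (∀ F : IrrCharacter G → ℂ, ∑ χ ∈ H.D.NE, F χ = F H.D.one + F b + F c + F b₁ + F c₁ + F g +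
        (F x₁ + F x₂ + F x₃ + F x₄ + F x₅)) ∧
      (∀ F : IrrCharacter G → ℤ, ∑ χ ∈ H.D.NE, F χ = F H.D.one + F b + F c + F b₁ + F c₁ + F g +
        (F x₁ + F x₂ + F x₃ + F x₄ + F x₅)) := by
  classical
  have nb := mem_NE23 H (χ := b) (by rw [K.dgb]; norm_num)
  have nc := mem_NE23 H (χ := c) (by rw [K.dgc]; norm_num)
  have nb₁ := mem_NE23 H (χ := b₁) (by rw [K.dgb₁]; norm_num)
  have nc₁ := mem_NE23 H (χ := c₁) (by rw [K.dgc₁]; norm_num)
  have ng := mem_NE23 H (χ := g) (by rw [K.dgg]; norm_num)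
  have hbc : b ≠ c := by
    have := K.nodup
    simp only [List.nodup_cons, List.mem_cons, List.not_mem_nil, or_false, not_or] at this
    exact this.2.1.1
  have hne : ∀ {χ ψ : IrrCharacter G}, dg χ ≠ dg ψ → χ ≠ ψ := fun h h' => h (by rw [h'])
  set S := (((((H.D.NE.erase H.D.one).erase b).erase c).erase b₁).erase c₁).erase g with hSdef
  have m1 : b ∈ H.D.NE.erase H.D.one :=
    Finset.mem_erase.2 ⟨hne (by rw [K.dgb, dg_one H]; norm_num), nb⟩
  have m2 : c ∈ (H.D.NE.erase H.D.one).erase b :=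
    Finset.mem_erase.2 ⟨hbc.symm, Finset.mem_erase.2
      ⟨hne (by rw [K.dgc, dg_one H]; norm_num), nc⟩⟩
  have m3 : b₁ ∈ ((H.D.NE.erase H.D.one).erase b).erase c :=
    Finset.mem_erase.2 ⟨hne (by rw [K.dgb₁, K.dgc]; norm_num), Finset.mem_erase.2
      ⟨hne (by rw [K.dgb₁, K.dgb]; norm_num), Finset.mem_erase.2
      ⟨hne (by rw [K.dgb₁, dg_one H]; norm_num), nb₁⟩⟩⟩
  have m4 : c₁ ∈ (((H.D.NE.erase H.D.one).erase b).erase c).erase b₁ :=
    Finset.mem_erase.2 ⟨K.b₁_ne.symm,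
      Finset.mem_erase.2 ⟨hne (by rw [K.dgc₁, K.dgc]; norm_num), Finset.mem_erase.2
      ⟨hne (by rw [K.dgc₁, K.dgb]; norm_num), Finset.mem_erase.2
      ⟨hne (by rw [K.dgc₁, dg_one H]; norm_num), nc₁⟩⟩⟩⟩
  have m5 : g ∈ ((((H.D.NE.erase H.D.one).erase b).erase c).erase b₁).erase c₁ :=
    Finset.mem_erase.2 ⟨hne (by rw [K.dgg, K.dgc₁]; norm_num), Finset.mem_erase.2
      ⟨hne (by rw [K.dgg, K.dgb₁]; norm_num),
      Finset.mem_erase.2 ⟨hne (by rw [K.dgg, K.dgc]; norm_num), Finset.mem_erase.2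
      ⟨hne (by rw [K.dgg, K.dgb]; norm_num), Finset.mem_erase.2
      ⟨hne (by rw [K.dgg, dg_one H]; norm_num), ng⟩⟩⟩⟩⟩
  have hcard : S.card = 5 := by
    have e1 := Finset.card_erase_add_one H.D.one_mem
    have e2 := Finset.card_erase_add_one m1
    have e3 := Finset.card_erase_add_one m2
    have e4 := Finset.card_erase_add_one m3
    have e5 := Finset.card_erase_add_one m4
    have e6 := Finset.card_erase_add_one m5
    rw [← hSdef] at e6
    rw [H.D.card_NE] at e1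
    omega
  obtain ⟨x₁, x₂, x₃, x₄, x₅, hx, o1, o2, o3, o4, -, hsum⟩ :=
    exists_list5 (fun χ => H.D.ε χ * (dg χ : ℤ)) hcard
  have hsum' : ∀ F : IrrCharacter G → ℂ, ∑ χ ∈ H.D.NE, F χ =
      F H.D.one + F b + F c + F b₁ + F c₁ + F g + (F x₁ + F x₂ + F x₃ + F x₄ + F x₅) := by
    intro F
    rw [← hsum F, ← Finset.add_sum_erase _ F H.D.one_mem, ← Finset.add_sum_erase _ F m1,
      ← Finset.add_sum_erase _ F m2, ← Finset.add_sum_erase _ F m3, ← Finset.add_sum_erase _ F m4,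
      ← Finset.add_sum_erase _ F m5]
    ring
  refine ⟨x₁, x₂, x₃, x₄, x₅, ?_, ?_, o1, o2, o3, o4, hsum', ?_⟩
  · intro χ
    have h1 : χ ∈ S ↔ χ ∈ [x₁, x₂, x₃, x₄, x₅] := hx χ
    have h2 : χ ∈ S ↔ χ ≠ g ∧ χ ≠ c₁ ∧ χ ≠ b₁ ∧ χ ≠ c ∧ χ ≠ b ∧ χ ≠ H.D.one ∧ χ ∈ H.D.NE := by
      rw [hSdef]
      simp only [Finset.mem_erase]
    constructor
    · intro h'
      by_contra h3
      simp only [List.mem_cons, List.not_mem_nil, or_false, not_or] at h3 h1
      have := h1.1 (h2.2 ⟨h3.2.2.2.2.2.1, h3.2.2.2.2.1, h3.2.2.2.1, h3.2.2.1, h3.2.1, h3.1, h'⟩)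
      tauto
    · intro h'
      simp only [List.mem_cons, List.not_mem_nil, or_false] at h' h1
      rcases h' with rfl | rfl | rfl | rfl | rfl | rfl | h'
      · exact H.D.one_mem
      · exact nb
      · exact nc
      · exact nb₁
      · exact nc₁
      · exact ng
      · exact (h2.1 (h1.2 h')).2.2.2.2.2.2
  · intro χ hχ
    have h1 := (hx χ).2 hχ
    rw [hSdef] at h1
    simp only [Finset.mem_erase] at h1
    obtain ⟨h2, h3, h4, h5, h6, h7, h8⟩ := h1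
    have h11 : dg χ % 11 = 0 := by
      refine dg_mod K h7 ?_ h6 h5 ?_ h4 h3
      · rintro rfl
        rcases mod23_NE H h8 with h9 | h9 <;> rw [K.dga] at h9 <;> omega
      · rintro rfl
        rcases mod23_NE H h8 with h9 | h9 <;> rw [K.dgd] at h9 <;> omega
    have hA := arith_T _ (dg_mem_A H χ) (fun h' => h7 (eq_one_of_dg H h')) h11
    rcases mod23_NE H h8 with ⟨h9, h10⟩ | ⟨h9, h10⟩
    · rw [h9, one_mul]; exact hA.1 h10
    · rw [h9, neg_one_mul]; exact hA.2 h10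
  · intro F
    have := hsum' (fun χ => (F χ : ℂ))
    exact_mod_cast this

/-- The exceptional characters of the principal 23-block. -/
theorem df_mem (K : Elev H z v a b c d g h b₁ c₁) : H.D.d * (H.D.f : ℤ) ∈ F := by
  obtain ⟨Θ, hΘ⟩ := X23_nonempty H
  have hm := mod23_X H hΘ
  have hf := H.D.deg_X Θ hΘ
  have hne : ∀ {ψ : IrrCharacter G}, (dg ψ % 23 ≠ 11 ∧ dg ψ % 23 ≠ 12) → Θ ≠ ψ := by
    rintro ψ h1 rfl
    rcases hm with h2 | h2
    · exact h1.1 h2.2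
    · exact h1.2 h2.2
  have h11 : dg Θ % 11 = 0 := by
    refine dg_mod K ?_ ?_ ?_ ?_ ?_ ?_ ?_ <;> apply hne
    · rw [dg_one H]; norm_num
    · rw [K.dga]; norm_num
    · rw [K.dgb]; norm_num
    · rw [K.dgc]; norm_num
    · rw [K.dgd]; norm_num
    · rw [K.dgb₁]; norm_num
    · rw [K.dgc₁]; norm_num
  have hA := arith_F _ (dg_mem_A H Θ) (dg_ne_eleven H Θ) h11
  rw [← hf]
  rcases hm with ⟨h1, h2⟩ | ⟨h1, h2⟩
  · rw [h1, one_mul]; exact hA.1 h2
  · rw [h1, neg_one_mul]; exact hA.2 h2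

/-- Sums over the known characters. -/
theorem sum_known (K : Elev H z v a b c d g h b₁ c₁) (F : IrrCharacter G → ℤ) {w : ℤ}
    (hw : ∀ Θ ∈ H.D.X, F Θ = w) : ∃ S : Finset (IrrCharacter G),
      ∑ χ ∈ S, F χ = F a + F d + F h + ∑ χ ∈ H.D.NE, F χ + 2 * w := by
  classical
  have hout : ∀ {χ : IrrCharacter G}, dg χ % 23 = 0 → χ ∉ H.D.NE ∪ H.D.X := by
    intro χ h1 h2
    rcases Finset.mem_union.1 h2 with h3 | h3
    · rcases mod23_NE H h3 with h4 | h4 <;> omega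
    · rcases mod23_X H h3 with h4 | h4 <;> omega
  refine ⟨insert a (insert d (insert h (H.D.NE ∪ H.D.X))), ?_⟩
  have hX : ∑ χ ∈ H.D.X, F χ = 2 * w := by
    rw [Finset.sum_congr rfl hw, Finset.sum_const, H.D.card_X]; norm_num
  have h1 : h ∉ H.D.NE ∪ H.D.X := hout (by rw [K.dgh])
  have h2 : d ∉ insert h (H.D.NE ∪ H.D.X) := by
    rw [Finset.mem_insert, not_or]
    refine ⟨fun h' => ?_, hout (by rw [K.dgd])⟩
    have e1 := K.dgd
    rw [h', K.dgh] at e1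
    omega
  have h3 : a ∉ insert d (insert h (H.D.NE ∪ H.D.X)) := by
    rw [Finset.mem_insert, Finset.mem_insert, not_or, not_or]
    refine ⟨fun h' => ?_, fun h' => ?_, hout (by rw [K.dga])⟩
    · have e1 := K.dga
      rw [h', K.dgd] at e1
      omega
    · have e1 := K.dga
      rw [h', K.dgh] at e1
      omega
  rw [Finset.sum_insert h3, Finset.sum_insert h2, Finset.sum_insert h1,
    Finset.sum_union H.D.disj, hX]
  ring

theorem dg_bound (K : Elev H z v a b c d g h b₁ c₁) :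
    52900 + 1071225 + 4096576 + ∑ χ ∈ H.D.NE, (dg χ : ℤ) ^ 2 + 2 * (H.D.f : ℤ) ^ 2 ≤
      10200960 := by
  obtain ⟨S, hS⟩ := sum_known K (fun χ => (dg χ : ℤ) ^ 2) (w := (H.D.f : ℤ) ^ 2)
    (fun Θ hΘ => by rw [H.D.deg_X Θ hΘ])
  have h1 := sum_dg_sq_le S
  rw [H.hcard] at h1
  have h2 : ∑ χ ∈ S, (dg χ : ℤ) ^ 2 ≤ 10200960 := by exact_mod_cast h1
  rw [hS] at h2
  simp only [K.dga, K.dgd, K.dgh] at h2
  norm_num at h2
  linarith

theorem v_bound (K : Elev H z v a b c d g h b₁ c₁) {Θ : IrrCharacter G} (hΘ : Θ ∈ H.D.X) :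
    484 + 729 + 64 + ∑ χ ∈ H.D.NE, v χ ^ 2 + 2 * v Θ ^ 2 ≤ 2688 := by
  have hd : H.D.d ≠ 0 := by rcases H.D.d_mem with h' | h' <;> rw [h'] <;> norm_num
  obtain ⟨S, hS⟩ := sum_known K (fun χ => v χ ^ 2) (w := v Θ ^ 2) (fun Θ' hΘ' => by
    have h1 := K.col.rel_one23 hΘ
    rw [K.col.rel_one23 hΘ'] at h1
    rw [mul_left_cancel₀ hd h1])
  have h1 := K.col.norm S
  rw [hS, K.va, K.vd, K.vh] at h1
  push_cast at h1
  linarith

/-- The conclusion: the principal 23-block is the one of `M₂₃`. -/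
theorem exists_block (K : Elev H z v a b c d g h b₁ c₁) :
    ∃ x₁ x₂ x₃ x₄ x₅ : IrrCharacter G,
      (∀ χ, χ ∈ H.D.NE ↔ χ ∈ [H.D.one, b, c, b₁, c₁, g, x₁, x₂, x₃, x₄, x₅]) ∧
      dg x₁ = 22 ∧ dg x₂ = 231 ∧ dg x₃ = 231 ∧ dg x₄ = 990 ∧ dg x₅ = 990 ∧
      H.D.f = 770 := by
  obtain ⟨x₁, x₂, x₃, x₄, x₅, hx, hT, o1, o2, o3, o4, hsC, hsZ⟩ := exists_rest K
  obtain ⟨Θ, hΘ⟩ := X23_nonempty H
  have hF := df_mem K
  have hne0 : ∀ {χ : IrrCharacter G}, dg χ ≠ 1 → χ ≠ H.D.one := fun h1 h2 => h1 (by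
    rw [h2, dg_one H])
  have nb := mem_NE23 H (χ := b) (by rw [K.dgb]; norm_num)
  have nc := mem_NE23 H (χ := c) (by rw [K.dgc]; norm_num)
  have nb₁ := mem_NE23 H (χ := b₁) (by rw [K.dgb₁]; norm_num)
  have nc₁ := mem_NE23 H (χ := c₁) (by rw [K.dgc₁]; norm_num)
  have ng := mem_NE23 H (χ := g) (by rw [K.dgg]; norm_num)
  have eb : H.D.ε b = -1 := by
    rcases mod23_NE H nb with h' | h' <;> rw [K.dgb] at h' <;> omega
  have ec : H.D.ε c = -1 := by
    rcases mod23_NE H nc with h' | h' <;> rw [K.dgc] at h' <;> omega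
  have eb₁ : H.D.ε b₁ = -1 := by
    rcases mod23_NE H nb₁ with h' | h' <;> rw [K.dgb₁] at h' <;> omega
  have ec₁ : H.D.ε c₁ = -1 := by
    rcases mod23_NE H nc₁ with h' | h' <;> rw [K.dgc₁] at h' <;> omega
  have eg : H.D.ε g = 1 := by
    rcases mod23_NE H ng with h' | h' <;> rw [K.dgg] at h' <;> omega
  have mx : ∀ χ ∈ [x₁, x₂, x₃, x₄, x₅], χ ∈ H.D.NE := fun χ hχ => (hx χ).2 (by
    simp only [List.mem_cons, List.not_mem_nil, or_false] at hχ ⊢; tauto)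
  -- degrees
  have hdeg := H.D.rel_deg (by norm_num) hΘ
  rw [hsZ, H.D.ε_one, dg_one H, eb, ec, eb₁, ec₁, eg, K.dgb, K.dgc, K.dgb₁, K.dgc₁, K.dgg] at hdeg
  have hbd := dg_bound K
  rw [hsZ, dg_one H, K.dgb, K.dgc, K.dgb₁, K.dgc₁, K.dgg] at hbd
  have hsq : ∀ χ ∈ [x₁, x₂, x₃, x₄, x₅], H.D.ε χ * (dg χ : ℤ) * (H.D.ε χ * (dg χ : ℤ)) =
      (dg χ : ℤ) ^ 2 := by
    intro χ hχ
    rcases H.D.ε_mem χ (mx χ hχ) with h' | h' <;> rw [h'] <;> ring
  have hsqf : H.D.d * (H.D.f : ℤ) * (H.D.d * (H.D.f : ℤ)) = (H.D.f : ℤ) ^ 2 := by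
    rcases H.D.d_mem with h' | h' <;> rw [h'] <;> ring
  have key := arith_cases _ (hT x₁ (by simp)) _ (hT x₂ (by simp)) o1 _ (hT x₃ (by simp)) o2 _
    (hT x₄ (by simp)) o3 _ (hT x₅ (by simp)) o4 _ hF (by push_cast at hdeg; linarith)
    (by
      rw [hsq x₁ (by simp), hsq x₂ (by simp), hsq x₃ (by simp), hsq x₄ (by simp),
        hsq x₅ (by simp), hsqf]
      push_cast at hbd
      linarith)
  -- values
  have hR1 := K.col.rel_one23 hΘ
  rw [hsZ, H.D.ε_one, K.col.one, eb, ec, eb₁, ec₁, eg, K.vb, K.vc, v896 K.col K.dgb₁,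
    v896 K.col K.dgc₁, K.vg] at hR1
  have hR2 := K.col.rel_two23 hΘ
  rw [hsC, H.D.ε_one, K.col.one, dg_one H, eb, ec, eb₁, ec₁, eg, K.vb, K.vc, v896 K.col K.dgb₁,
    v896 K.col K.dgc₁, K.vg, K.dgb, K.dgc, K.dgb₁, K.dgc₁, K.dgg, H.D.deg_X Θ hΘ] at hR2
  have hnm := v_bound K hΘ
  rw [hsZ, K.col.one, K.vb, K.vc, v896 K.col K.dgb₁, v896 K.col K.dgc₁, K.vg] at hnm
  have hval : ∀ χ ∈ [x₁, x₂, x₃, x₄, x₅], ∀ n : ℤ, H.D.ε χ * (dg χ : ℤ) = n →
      (0 < n → H.D.ε χ = 1 ∧ (dg χ : ℤ) = n) ∧ (n < 0 → H.D.ε χ = -1 ∧ (dg χ : ℤ) = -n) := by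
    intro χ hχ n hn
    have h1 : (0 : ℤ) < dg χ := by exact_mod_cast Nat.pos_of_ne_zero (dg_ne_zero χ)
    rcases H.D.ε_mem χ (mx χ hχ) with h' | h' <;> rw [h'] at hn ⊢ <;>
      constructor <;> intro h2 <;> constructor <;> omega
  have hvalf : ∀ n : ℤ, H.D.d * (H.D.f : ℤ) = n →
      (0 < n → H.D.d = 1 ∧ (H.D.f : ℤ) = n) ∧ (n < 0 → H.D.d = -1 ∧ (H.D.f : ℤ) = -n) := by
    intro n hn
    have h1 : (0 : ℤ) ≤ H.D.f := by positivity
    rcases H.D.d_mem with h' | h' <;> rw [h'] at hn ⊢ <;>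
      constructor <;> intro h2 <;> constructor <;> omega
  have hle : ∀ χ ∈ [x₁, x₂, x₃, x₄, x₅], v χ ^ 2 ≤ 1343 := by
    intro χ hχ
    have q1 := sq_nonneg (v x₁)
    have q2 := sq_nonneg (v x₂)
    have q3 := sq_nonneg (v x₃)
    have q4 := sq_nonneg (v x₄)
    have q5 := sq_nonneg (v x₅)
    have q6 := sq_nonneg (v Θ)
    simp only [List.mem_cons, List.not_mem_nil, or_false] at hχ
    rcases hχ with h' | h' | h' | h' | h' <;> rw [h'] <;> linarith
  have h231 : ∀ χ ∈ [x₁, x₂, x₃, x₄, x₅], (dg χ : ℤ) = 231 → v χ ∈ V231 := by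
    intro χ hχ h'
    have h1 := K.col.dvd χ
    have h2 := K.col.four χ (hne0 (by omega))
    rw [h'] at h1 h2
    exact mem_V231 (hle χ hχ) (by exact_mod_cast h1) h2
  have h990 : ∀ χ ∈ [x₁, x₂, x₃, x₄, x₅], (dg χ : ℤ) = 990 → v χ ∈ V990 := by
    intro χ hχ h'
    have h1 := K.col.dvd χ
    have h2 := K.col.four χ (hne0 (by omega))
    rw [h'] at h1 h2
    exact mem_V990 (hle χ hχ) (by exact_mod_cast h1) h2
  have h528 : ∀ χ ∈ [x₁, x₂, x₃, x₄, x₅], (dg χ : ℤ) = 528 → v χ ∈ V528 := by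
    intro χ hχ h'
    have h1 := K.col.dvd χ
    rw [h'] at h1
    exact mem_V528 (hle χ hχ) (by exact_mod_cast h1)
  have hcast : ∀ {χ : IrrCharacter G} {n : ℤ}, (dg χ : ℤ) = n → (dg χ : ℂ) = n := by
    intro χ n h'
    exact_mod_cast h'
  have hcastf : ∀ {n : ℤ}, (H.D.f : ℤ) = n → (H.D.f : ℂ) = n := by
    intro n h'
    exact_mod_cast h'
  have hv1 := hval x₁ (by simp) _ rfl
  have hv2 := hval x₂ (by simp) _ rfl
  have hv3 := hval x₃ (by simp) _ rfl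
  have hv4 := hval x₄ (by simp) _ rfl
  have hv5 := hval x₅ (by simp) _ rfl
  have hvf := hvalf _ rfl
  have hdvdΘ := K.col.dvd Θ
  rw [H.D.deg_X Θ hΘ] at hdvdΘ
  clear hval hvalf hdeg hbd hsq hsqf hF hT o1 o2 o3 o4
  simp only [cases, List.mem_cons, List.cons.injEq, List.not_mem_nil, or_false, and_true] at key
  rcases key with ⟨k1, k2, k3, k4, k5, k6⟩ | ⟨k1, k2, k3, k4, k5, k6⟩ | ⟨k1, k2, k3, k4, k5, k6⟩ |
    ⟨k1, k2, k3, k4, k5, k6⟩ | ⟨k1, k2, k3, k4, k5, k6⟩ | ⟨k1, k2, k3, k4, k5, k6⟩ |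
    ⟨k1, k2, k3, k4, k5, k6⟩ | ⟨k1, k2, k3, k4, k5, k6⟩ <;>
    rw [k1] at hv1 <;> rw [k2] at hv2 <;> rw [k3] at hv3 <;> rw [k4] at hv4 <;>
    rw [k5] at hv5 <;> rw [k6] at hvf
  · exfalso
    obtain ⟨p1, q1⟩ := hv1.2 (by norm_num)
    obtain ⟨p2, q2⟩ := hv2.1 (by norm_num)
    obtain ⟨p3, q3⟩ := hv3.1 (by norm_num)
    obtain ⟨p4, q4⟩ := hv4.1 (by norm_num)
    obtain ⟨p5, q5⟩ := hv5.1 (by norm_num)
    obtain ⟨p6, q6⟩ := hvf.1 (by norm_num)
    rw [p1, p2, p3, p4, p5, p6] at hR1 hR2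
    rw [hcast q1, hcast q2, hcast q3, hcast q4, hcast q5, hcastf q6] at hR2
    have E : 45024 - 105 * v x₁ ^ 2 + 240 * v x₂ ^ 2 + 240 * v x₃ ^ 2 + 56 * v x₄ ^ 2 + 56 * v x₅ ^ 2 = 210 * v Θ ^ 2 := by
      have E' : ((45024 - 105 * v x₁ ^ 2 + 240 * v x₂ ^ 2 + 240 * v x₃ ^ 2 + 56 * v x₄ ^ 2 + 56 * v x₅ ^ 2 : ℤ) : ℂ) = ((210 * v Θ ^ 2 : ℤ) : ℂ) := by
        push_cast at hR2 ⊢
        linear_combination 55440 * hR2
      exact_mod_cast E'
    have hw : v Θ = 14 - v x₁ + v x₂ + v x₃ + v x₄ + v x₅ := by linarith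
    rw [hw] at E hnm
    exact case1 _ (h528 x₁ (by simp) (by omega)) _ (h231 x₂ (by simp) (by omega))
      _ (h231 x₃ (by simp) (by omega)) _ (h990 x₄ (by simp) (by omega))
      _ (h990 x₅ (by simp) (by omega)) (by linear_combination E) (by linarith)
  · exfalso
    obtain ⟨p1, q1⟩ := hv1.1 (by norm_num)
    obtain ⟨p2, q2⟩ := hv2.1 (by norm_num)
    obtain ⟨p3, q3⟩ := hv3.1 (by norm_num)
    obtain ⟨p4, q4⟩ := hv4.1 (by norm_num)
    obtain ⟨p5, q5⟩ := hv5.1 (by norm_num)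
    obtain ⟨p6, q6⟩ := hvf.1 (by norm_num)
    rw [p1, p2, p3, p4, p5, p6] at hR1 hR2
    rw [hcast q1, hcast q2, hcast q3, hcast q4, hcast q5, hcastf q6] at hR2
    have E : 45024 + 240 * v x₁ ^ 2 + 240 * v x₂ ^ 2 + 240 * v x₃ ^ 2 + 240 * v x₄ ^ 2 + 56 * v x₅ ^ 2 = 210 * v Θ ^ 2 := by
      have E' : ((45024 + 240 * v x₁ ^ 2 + 240 * v x₂ ^ 2 + 240 * v x₃ ^ 2 + 240 * v x₄ ^ 2 + 56 * v x₅ ^ 2 : ℤ) : ℂ) = ((210 * v Θ ^ 2 : ℤ) : ℂ) := by
        push_cast at hR2 ⊢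
        linear_combination 55440 * hR2
      exact_mod_cast E'
    have hw : v Θ = 14 + v x₁ + v x₂ + v x₃ + v x₄ + v x₅ := by linarith
    rw [hw] at E hnm
    exact case2 _ (h231 x₁ (by simp) (by omega)) _ (h231 x₂ (by simp) (by omega))
      _ (h231 x₃ (by simp) (by omega)) _ (h231 x₄ (by simp) (by omega))
      _ (h990 x₅ (by simp) (by omega)) (by linear_combination E) (by linarith)
  · exfalso
    obtain ⟨p1, q1⟩ := hv1.2 (by norm_num)
    obtain ⟨p2, q2⟩ := hv2.2 (by norm_num)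
    obtain ⟨p3, q3⟩ := hv3.2 (by norm_num)
    obtain ⟨p4, q4⟩ := hv4.1 (by norm_num)
    obtain ⟨p5, q5⟩ := hv5.1 (by norm_num)
    obtain ⟨p6, q6⟩ := hvf.1 (by norm_num)
    rw [p1, p2, p3, p4, p5, p6] at hR1 hR2
    rw [hcast q1, hcast q2, hcast q3, hcast q4, hcast q5, hcastf q6] at hR2
    have E : 45024 - 2520 * v x₁ ^ 2 - 2520 * v x₂ ^ 2 - 2520 * v x₃ ^ 2 + 56 * v x₄ ^ 2 + 56 * v x₅ ^ 2 = 210 * v Θ ^ 2 := by
      have E' : ((45024 - 2520 * v x₁ ^ 2 - 2520 * v x₂ ^ 2 - 2520 * v x₃ ^ 2 + 56 * v x₄ ^ 2 + 56 * v x₅ ^ 2 : ℤ) : ℂ) = ((210 * v Θ ^ 2 : ℤ) : ℂ) := by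
        push_cast at hR2 ⊢
        linear_combination 55440 * hR2
      exact_mod_cast E'
    have hw : v Θ = 14 - v x₁ - v x₂ - v x₃ + v x₄ + v x₅ := by linarith
    exact case3 (a := v x₁ ^ 2 + v x₂ ^ 2 + v x₃ ^ 2) (w := v Θ) (h990 x₄ (by simp) (by omega))
      (h990 x₅ (by simp) (by omega)) (by linear_combination E)
  · obtain ⟨p1, q1⟩ := hv1.2 (by norm_num)
    obtain ⟨p2, q2⟩ := hv2.1 (by norm_num)
    obtain ⟨p3, q3⟩ := hv3.1 (by norm_num)
    obtain ⟨p4, q4⟩ := hv4.1 (by norm_num)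
    obtain ⟨p5, q5⟩ := hv5.1 (by norm_num)
    obtain ⟨p6, q6⟩ := hvf.1 (by norm_num)
    exact ⟨x₁, x₂, x₃, x₄, x₅, hx, by omega, by omega, by omega, by omega, by omega, by omega⟩
  · exfalso
    obtain ⟨p1, q1⟩ := hv1.2 (by norm_num)
    obtain ⟨p2, q2⟩ := hv2.2 (by norm_num)
    obtain ⟨p3, q3⟩ := hv3.1 (by norm_num)
    obtain ⟨p4, q4⟩ := hv4.1 (by norm_num)
    obtain ⟨p5, q5⟩ := hv5.1 (by norm_num)
    obtain ⟨p6, q6⟩ := hvf.2 (by norm_num)
    rw [p1, p2, p3, p4, p5, p6] at hR1 hR2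
    rw [hcast q1, hcast q2, hcast q3, hcast q4, hcast q5, hcastf q6] at hR2
    have E : 45024 - 105 * v x₁ ^ 2 - 105 * v x₂ ^ 2 + 240 * v x₃ ^ 2 + 56 * v x₄ ^ 2 + 56 * v x₅ ^ 2 = -(112 * v Θ ^ 2) := by
      have E' : ((45024 - 105 * v x₁ ^ 2 - 105 * v x₂ ^ 2 + 240 * v x₃ ^ 2 + 56 * v x₄ ^ 2 + 56 * v x₅ ^ 2 : ℤ) : ℂ) = ((-(112 * v Θ ^ 2) : ℤ) : ℂ) := by
        push_cast at hR2 ⊢
        linear_combination 55440 * hR2
      exact_mod_cast E'
    have hw : v Θ = -(14 - v x₁ - v x₂ + v x₃ + v x₄ + v x₅) := by linarith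
    rw [hw] at E hnm
    exact case5 _ (h528 x₁ (by simp) (by omega)) _ (h528 x₂ (by simp) (by omega))
      _ (h231 x₃ (by simp) (by omega)) _ (h990 x₄ (by simp) (by omega))
      _ (h990 x₅ (by simp) (by omega)) (by linear_combination E) (by linarith)
  · exfalso
    obtain ⟨p1, q1⟩ := hv1.2 (by norm_num)
    obtain ⟨p2, q2⟩ := hv2.1 (by norm_num)
    obtain ⟨p3, q3⟩ := hv3.1 (by norm_num)
    obtain ⟨p4, q4⟩ := hv4.1 (by norm_num)
    obtain ⟨p5, q5⟩ := hv5.1 (by norm_num)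
    obtain ⟨p6, q6⟩ := hvf.2 (by norm_num)
    rw [p1, p2, p3, p4, p5, p6] at hR1 hR2
    rw [hcast q1, hcast q2, hcast q3, hcast q4, hcast q5, hcastf q6] at hR2
    have E : 45024 - 105 * v x₁ ^ 2 + 240 * v x₂ ^ 2 + 240 * v x₃ ^ 2 + 240 * v x₄ ^ 2 + 56 * v x₅ ^ 2 = -(112 * v Θ ^ 2) := by
      have E' : ((45024 - 105 * v x₁ ^ 2 + 240 * v x₂ ^ 2 + 240 * v x₃ ^ 2 + 240 * v x₄ ^ 2 + 56 * v x₅ ^ 2 : ℤ) : ℂ) = ((-(112 * v Θ ^ 2) : ℤ) : ℂ) := by
        push_cast at hR2 ⊢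
        linear_combination 55440 * hR2
      exact_mod_cast E'
    have hw : v Θ = -(14 - v x₁ + v x₂ + v x₃ + v x₄ + v x₅) := by linarith
    rw [hw] at E hnm
    exact case6 _ (h528 x₁ (by simp) (by omega)) _ (h231 x₂ (by simp) (by omega))
      _ (h231 x₃ (by simp) (by omega)) _ (h231 x₄ (by simp) (by omega))
      _ (h990 x₅ (by simp) (by omega)) (by linear_combination E) (by linarith)
  · exfalso
    obtain ⟨p1, q1⟩ := hv1.1 (by norm_num)
    obtain ⟨p2, q2⟩ := hv2.1 (by norm_num)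
    obtain ⟨p3, q3⟩ := hv3.1 (by norm_num)
    obtain ⟨p4, q4⟩ := hv4.1 (by norm_num)
    obtain ⟨p5, q5⟩ := hv5.1 (by norm_num)
    obtain ⟨p6, q6⟩ := hvf.2 (by norm_num)
    rw [p1, p2, p3, p4, p5, p6] at hR1 hR2
    rw [hcast q1, hcast q2, hcast q3, hcast q4, hcast q5, hcastf q6] at hR2
    have E : 45024 + 240 * v x₁ ^ 2 + 240 * v x₂ ^ 2 + 240 * v x₃ ^ 2 + 240 * v x₄ ^ 2 + 240 * v x₅ ^ 2 = -(112 * v Θ ^ 2) := by
      have E' : ((45024 + 240 * v x₁ ^ 2 + 240 * v x₂ ^ 2 + 240 * v x₃ ^ 2 + 240 * v x₄ ^ 2 + 240 * v x₅ ^ 2 : ℤ) : ℂ) = ((-(112 * v Θ ^ 2) : ℤ) : ℂ) := by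
        push_cast at hR2 ⊢
        linear_combination 55440 * hR2
      exact_mod_cast E'
    have hw : v Θ = -(14 + v x₁ + v x₂ + v x₃ + v x₄ + v x₅) := by linarith
    nlinarith [sq_nonneg (v x₁), sq_nonneg (v x₂), sq_nonneg (v x₃), sq_nonneg (v x₄),
      sq_nonneg (v x₅), sq_nonneg (v Θ)]
  · exfalso
    obtain ⟨p1, q1⟩ := hv1.2 (by norm_num)
    obtain ⟨p2, q2⟩ := hv2.2 (by norm_num)
    obtain ⟨p3, q3⟩ := hv3.2 (by norm_num)
    obtain ⟨p4, q4⟩ := hv4.1 (by norm_num)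
    obtain ⟨p5, q5⟩ := hv5.1 (by norm_num)
    obtain ⟨p6, q6⟩ := hvf.2 (by norm_num)
    rw [p1, p2, p3, p4, p5, p6] at hR1 hR2
    rw [hcast q1, hcast q2, hcast q3, hcast q4, hcast q5, hcastf q6] at hR2
    have E : 45024 - 2520 * v x₁ ^ 2 - 2520 * v x₂ ^ 2 - 2520 * v x₃ ^ 2 + 240 * v x₄ ^ 2 + 56 * v x₅ ^ 2 = -(112 * v Θ ^ 2) := by
      have E' : ((45024 - 2520 * v x₁ ^ 2 - 2520 * v x₂ ^ 2 - 2520 * v x₃ ^ 2 + 240 * v x₄ ^ 2 + 56 * v x₅ ^ 2 : ℤ) : ℂ) = ((-(112 * v Θ ^ 2) : ℤ) : ℂ) := by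
        push_cast at hR2 ⊢
        linear_combination 55440 * hR2
      exact_mod_cast E'
    have hw : v Θ = -(14 - v x₁ - v x₂ - v x₃ + v x₄ + v x₅) := by linarith
    rw [q6] at hdvdΘ
    exact case8 (a := v x₁ ^ 2 + v x₂ ^ 2 + v x₃ ^ 2) (w := v Θ) (h231 x₄ (by simp) (by omega))
      (h990 x₅ (by simp) (by omega)) (by exact_mod_cast hdvdΘ) (by linear_combination E)

end Cfsg.Agent.M23Order.TwentyThree
end
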