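import Cfsg.Agent.SmallSimple.TheoremBCor
import Cfsg.Agent.SmallSimple.DegreeData
import Cfsg.Agent.SmallSimple.InvolColumn
import Cfsg.Agent.MTwelve.BlockData
set_option linter.all false

/-!
# Integral data of Brauer's theorem (self-centralizing case)

`SC p e t P`: the conclusion of `theoremB_selfCent` with degrees, congruences and the sums over `P`.
-/

set_option autoImplicit false
set_option linter.unusedSectionVars false

open Cfsg Subgroup
open Cfsg.Agent.Characters.Core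
open Cfsg.Agent.SmallSimple
open scoped ComplexConjugate

namespace Cfsg.Agent.M23Order.Base

universe u
variable {G : Type u} [Group G]

/-- The degree. -/
noncomputable def dg (χ : IrrCharacter G) : ℕ := charDegree (χ : G → ℂ)

theorem dg_eq (χ : IrrCharacter G) : (χ : G → ℂ) 1 = dg χ := Blocks.Knorr.charDegree_eq χ.2

theorem dg_of_eq {χ : IrrCharacter G} {n : ℕ} (h : (χ : G → ℂ) 1 = n) : dg χ = n := by
  rw [dg_eq] at h; exact_mod_cast h

theorem dg_ne_zero (χ : IrrCharacter G) : dg χ ≠ 0 := Blocks.Knorr.charDegree_ne_zero χ.2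

theorem dg_dvd [Finite G] (χ : IrrCharacter G) : dg χ ∣ Nat.card G :=
  Blocks.Knorr.charDegree_dvd χ.2

theorem sum_dg_sq [Finite G] [Fintype (IrrCharacter G)] :
    ∑ χ : IrrCharacter G, dg χ ^ 2 = Nat.card G := DegreeData.sum_sq

theorem sum_dg_sq_le [Finite G] (s : Finset (IrrCharacter G)) :
    ∑ χ ∈ s, dg χ ^ 2 ≤ Nat.card G := by
  have := finite_irr (G := G)
  have := Fintype.ofFinite (IrrCharacter G)
  rw [← sum_dg_sq]
  exact Finset.sum_le_sum_of_subset (Finset.subset_univ s)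

theorem coe_eq_one_of_dg [IsSimpleGroup G] (hG : commutator G = ⊤) {χ : IrrCharacter G}
    (h : dg χ = 1) : (χ : G → ℂ) = 1 := by
  have h1 : MTwelve.BlockData.deg χ = 1 :=
    MTwelve.BlockData.deg_eq_of (by rw [dg_eq, h])
  rw [MTwelve.BlockData.eq_triv_of_deg hG h1]
  rfl

variable [Finite G]

/-- Data of Brauer's theorem on the principal block of a group with a self-centralizing Sylow
`p`-subgroup of order `p`. -/
structure SC (p e t : ℕ) (P : Sylow p G) where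
  /-- nonexceptional characters -/
  NE : Finset (IrrCharacter G)
  /-- exceptional characters -/
  X : Finset (IrrCharacter G)
  /-- the trivial character -/
  one : IrrCharacter G
  /-- signs -/
  ε : IrrCharacter G → ℤ
  /-- the sign of the exceptional characters -/
  d : ℤ
  /-- the degree of the exceptional characters -/
  f : ℕ
  /-- linear constituents of the exceptional characters -/
  S : IrrCharacter G → Finset (P →* ℂˣ)
  disj : Disjoint NE X
  card_NE : NE.card = e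
  card_X : X.card = t
  coe_one : (one : G → ℂ) = 1
  one_mem : one ∈ NE
  ε_one : ε one = 1
  ε_mem : ∀ χ ∈ NE, ε χ = 1 ∨ ε χ = -1
  d_mem : d = 1 ∨ d = -1
  val : ∀ χ ∈ NE, ∀ x ∈ P, x ≠ 1 → (χ : G → ℂ) x = ε χ
  card_S : ∀ Θ ∈ X, (S Θ).card = e
  one_notMem_S : ∀ Θ ∈ X, 1 ∉ S Θ
  val_X : ∀ Θ ∈ X, ∀ x : P, x ≠ 1 → (Θ : G → ℂ) x = d * ∑ l ∈ S Θ, ((l x : ℂˣ) : ℂ)
  out : ∀ χ : IrrCharacter G, χ ∉ NE → χ ∉ X → ∀ x ∈ P, x ≠ 1 → (χ : G → ℂ) x = 0
  deg_X : ∀ χ ∈ X, dg χ = f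
  rel : ∀ Θ ∈ X, ∀ g : G, ¬ p ∣ orderOf g →
    ∑ χ ∈ NE, (ε χ : ℂ) * (χ : G → ℂ) g = d * (Θ : G → ℂ) g
  mod_NE : ∀ χ ∈ NE, (p : ℤ) ∣ dg χ - ε χ
  mod_X : (p : ℤ) ∣ f - d * e
  mod_out : ∀ χ : IrrCharacter G, χ ∉ NE → χ ∉ X → p ∣ dg χ

theorem exists_sc (p : ℕ) [Fact p.Prime] (hp2 : p ≠ 2) (P : Sylow p G)
    (hP : Nat.card P = p) (hC : centralizer (P : Set G) = (P : Subgroup G)) (e t : ℕ)
    (he : (centralizer (P : Set G)).relIndex (normalizer (P : Set G)) = e) (ht : e * t = p - 1) :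
    Nonempty (SC p e t P) := by
  classical
  have hp : p.Prime := Fact.out
  obtain ⟨NE, X, ε, d, S, h1, h2, h3, h4, h5, ⟨χ₁, h6, h6', h6''⟩, h7, h8, h9, h10, h11⟩ :=
    TheoremBCor.theoremB_selfCent p hp2 P hP hC e t he ht
  have ht0 : t ≠ 0 := by
    rintro rfl
    rw [mul_zero] at ht
    have := hp.two_le
    omega
  obtain ⟨Θ₀, hΘ₀⟩ : X.Nonempty := by rw [← Finset.card_ne_zero, h3]; exact ht0
  have hdX : ∀ χ ∈ X, dg χ = dg Θ₀ := by
    intro Θ hΘ
    have e1 := DegreeData.relation hp.one_lt.ne' (h10 Θ hΘ)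
    have e2 := DegreeData.relation hp.one_lt.ne' (h10 Θ₀ hΘ₀)
    rw [e1] at e2
    rcases h5 with rfl | rfl
    · simpa [dg] using e2
    · simpa [dg] using e2
  refine ⟨{ NE := NE, X := X, one := χ₁, ε := ε, d := d, f := dg Θ₀, S := S,
            disj := h1, card_NE := h2, card_X := h3, coe_one := h6', one_mem := h6,
            ε_one := h6'', ε_mem := h4, d_mem := h5, val := h7,
            card_S := fun Θ hΘ => (h8 Θ hΘ).1, one_notMem_S := fun Θ hΘ => (h8 Θ hΘ).2.1,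
            val_X := fun Θ hΘ => (h8 Θ hΘ).2.2, out := fun χ hχ hχ' => (h11 χ hχ hχ').1,
            deg_X := hdX, rel := h10, mod_NE := ?_, mod_X := ?_,
            mod_out := fun χ hχ hχ' => (h11 χ hχ hχ').2 }⟩
  · intro χ hχ
    obtain ⟨m, hm⟩ := TheoremBCor.degree_nonexc (P := (P : Subgroup G)) hP
      (isIrr_isCharacter χ.2) (h7 χ hχ)
    rw [dg_eq] at hm
    refine ⟨(m : ℤ) - ε χ, ?_⟩
    have : ((dg χ : ℤ) : ℂ) = ((ε χ + p * ((m : ℤ) - ε χ) : ℤ) : ℂ) := by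
      push_cast; exact hm
    have h' : (dg χ : ℤ) = ε χ + p * ((m : ℤ) - ε χ) := by exact_mod_cast this
    rw [h']; ring
  · obtain ⟨m, hm⟩ := TheoremBCor.degree_exc (P := (P : Subgroup G)) hP
      (isIrr_isCharacter Θ₀.2) (h8 Θ₀ hΘ₀).2.1 (h8 Θ₀ hΘ₀).2.2
    rw [dg_eq, (h8 Θ₀ hΘ₀).1] at hm
    refine ⟨(m : ℤ), ?_⟩
    have : ((dg Θ₀ : ℤ) : ℂ) = ((d * e + p * (m : ℤ) : ℤ) : ℂ) := by
      push_cast; exact hm
    have h' : (dg Θ₀ : ℤ) = d * e + p * (m : ℤ) := by exact_mod_cast this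
    rw [h']; ring

namespace SC

variable {p e t : ℕ} {P : Sylow p G}

theorem rel_deg (D : SC p e t P) (hp : p ≠ 1) {Θ : IrrCharacter G} (hΘ : Θ ∈ D.X) :
    ∑ χ ∈ D.NE, D.ε χ * (dg χ : ℤ) = D.d * D.f := by
  have h1 := D.rel Θ hΘ 1 (by rw [orderOf_one]; exact fun h => hp (Nat.dvd_one.1 h))
  rw [dg_eq, D.deg_X Θ hΘ, Finset.sum_congr rfl fun χ _ => by rw [dg_eq]] at h1
  exact_mod_cast h1

/-- The sum over `P`, nonexceptional characters. -/
theorem sum_NE (D : SC p e t P) (hP : Nat.card P = p) [Fintype (P : Subgroup G)]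
    {χ : IrrCharacter G} (hχ : χ ∈ D.NE) :
    ∑ x : (P : Subgroup G), (χ : G → ℂ) x = dg χ + ((p : ℂ) - 1) * D.ε χ := by
  have h1 := TheoremBCor.sum_const_off (Q := (P : Subgroup G))
    (f := fun x => (χ : G → ℂ) x) (c := (D.ε χ : ℂ))
    (fun x hx => D.val χ hχ x x.2 (fun h' => hx (Subtype.ext h')))
  rw [h1, hP]
  congr 1
  exact dg_eq χ

theorem sum_X (D : SC p e t P) [Fintype (P : Subgroup G)] {χ : IrrCharacter G}
    (hχ : χ ∈ D.X) : ∑ x : (P : Subgroup G), (χ : G → ℂ) x = dg χ - D.d * e := by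
  have h1 := TheoremBCor.sum_exc_off (Q := (P : Subgroup G))
    (f := fun x => (χ : G → ℂ) x) (d := (D.d : ℂ))
    (D.one_notMem_S χ hχ) (D.val_X χ hχ)
  rw [h1, D.card_S χ hχ]
  congr 1
  exact dg_eq χ

theorem sum_out (D : SC p e t P) [Fintype (P : Subgroup G)] {χ : IrrCharacter G}
    (hχ : χ ∉ D.NE) (hχ' : χ ∉ D.X) : ∑ x : (P : Subgroup G), (χ : G → ℂ) x = dg χ := by
  have h1 := TheoremBCor.sum_const_off (Q := (P : Subgroup G))
    (f := fun x => (χ : G → ℂ) x) (c := (0 : ℂ))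
    (fun x hx => D.out χ hχ hχ' x x.2 (fun h' => hx (Subtype.ext h')))
  rw [h1, mul_zero, add_zero]
  exact dg_eq χ

end SC

/-- A character is a combination of irreducible characters with the right coefficients. -/
theorem exists_coeff [Fintype (IrrCharacter G)] {φ : G → ℂ} (hφ : IsCharacter G φ) :
    ∃ c : IrrCharacter G → ℕ, ∀ g, φ g = ∑ χ : IrrCharacter G, (c χ : ℂ) * (χ : G → ℂ) g := by
  obtain ⟨m, hm⟩ := exists_nat_comb hφ
  refine ⟨m, fun g => ?_⟩
  rw [hm, Finset.sum_apply]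
  exact Finset.sum_congr rfl fun χ _ => by rw [Pi.smul_apply, nsmul_eq_mul]

end Cfsg.Agent.M23Order.Base
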